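import Mathlib

set_option autoImplicit false

/-! Counting fixed vectors of linear maps of prime order on invariant subspaces of a finite vector
space, and the resulting bound for commuting semisimple elements of coprime prime orders. -/

namespace Cfsg.Agent.Lib.Helper5.SpecSL

variable {F : Type*} [Field F] {V : Type*} [AddCommGroup V] [Module F V]

/-- the fixed space of a linear map -/
def fixSp (g : V →ₗ[F] V) : Submodule F V := LinearMap.ker (g - 1)

theorem mem_fixSp (g : V →ₗ[F] V) (v : V) : v ∈ fixSp g ↔ g v = v := by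
  unfold fixSp
  rw [LinearMap.mem_ker, LinearMap.sub_apply, sub_eq_zero]
  rfl

theorem fixSp_invariant (g h : V →ₗ[F] V) (hc : g ∘ₗ h = h ∘ₗ g) (v : V) (hv : v ∈ fixSp g) :
    h v ∈ fixSp g := by
  rw [mem_fixSp] at hv ⊢
  have := LinearMap.congr_fun hc v
  simp only [LinearMap.comp_apply] at this
  rw [this, hv]

theorem pow_apply_mem (g : V →ₗ[F] V) (W : Submodule F V) (hW : ∀ w ∈ W, g w ∈ W) (j : ℕ) :
    ∀ w ∈ W, (g ^ j) w ∈ W := by
  induction j with
  | zero => intro w hw; simpa using hw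
  | succ j ih =>
    intro w hw
    rw [pow_succ, Module.End.mul_apply]
    exact ih _ (hW w hw)

variable [Fintype F] [Finite V]

/-- fixed-point congruence on an invariant subspace -/
theorem card_modEq (g : V →ₗ[F] V) (W : Submodule F V) (hW : ∀ w ∈ W, g w ∈ W) (r : ℕ)
    [Fact r.Prime] (hg : g ^ r = 1) :
    Nat.card W ≡ Nat.card (W ⊓ fixSp g : Submodule F V) [MOD r] := by
  classical
  have : Fintype V := Fintype.ofFinite V
  obtain ⟨f, hf⟩ : ∃ f : Function.End W, ∀ w : W, ((f w : W) : V) = g w :=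
    ⟨fun w => ⟨g w, hW w w.2⟩, fun w => rfl⟩
  have hpow : ∀ j : ℕ, ∀ w : W, (((f ^ j) w : W) : V) = (g ^ j) w := by
    intro j
    induction j with
    | zero => intro w; rw [pow_zero, pow_zero]; rfl
    | succ j ih =>
      intro w
      rw [pow_succ, pow_succ, Module.End.mul_apply, ← hf, ← ih]
      rfl
  have hfr : f ^ r ^ 1 = 1 := by
    rw [pow_one]
    funext w
    apply Subtype.ext
    rw [hpow, hg]
    rfl
  have h1 := Equiv.Perm.card_fixedPoints_modEq (p := r) (n := 1) hfr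
  rw [Fintype.card_eq_nat_card, Fintype.card_eq_nat_card] at h1
  refine h1.trans ?_
  apply congrArg (· % r)
  apply Nat.card_congr
  refine ⟨fun w => ⟨w.1.1, ⟨w.1.2, ?_⟩⟩, fun w => ⟨⟨w.1, w.2.1⟩, ?_⟩, fun w => rfl, fun w => rfl⟩
  · show (w.1.1 : V) ∈ fixSp g
    rw [mem_fixSp, ← hf]
    exact congrArg Subtype.val w.2
  · apply Subtype.ext
    show ((f ⟨w.1, w.2.1⟩ : W) : V) = w.1
    rw [hf]
    exact (mem_fixSp g w.1).mp w.2.2

theorem card_submodule (W : Submodule F V) :
    Nat.card W = Fintype.card F ^ Module.finrank F W := by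
  classical
  have : Fintype W := Fintype.ofFinite W
  rw [Nat.card_eq_fintype_card, Module.card_eq_pow_finrank (K := F)]

/-- the order of `q` modulo `r` divides the codimension of the fixed space inside `W` -/
theorem orderOf_dvd_finrank_sub (g : V →ₗ[F] V) (W : Submodule F V) (hW : ∀ w ∈ W, g w ∈ W) (r : ℕ)
    [Fact r.Prime] (hg : g ^ r = 1) (hr : ¬ r ∣ Fintype.card F) :
    orderOf ((Fintype.card F : ℕ) : ZMod r) ∣
      Module.finrank F W - Module.finrank F (W ⊓ fixSp g : Submodule F V) := by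
  have h1 := card_modEq g W hW r hg
  rw [card_submodule, card_submodule] at h1
  have hle : Module.finrank F (W ⊓ fixSp g : Submodule F V) ≤ Module.finrank F W :=
    Submodule.finrank_mono inf_le_left
  obtain ⟨A, hA⟩ : ∃ A, A = Module.finrank F W := ⟨_, rfl⟩
  obtain ⟨B, hB⟩ : ∃ B, B = Module.finrank F (W ⊓ fixSp g : Submodule F V) := ⟨_, rfl⟩
  rw [← hA, ← hB] at h1 hle ⊢
  have h2 := (ZMod.natCast_eq_natCast_iff _ _ _).mpr h1
  rw [Nat.cast_pow, Nat.cast_pow] at h2
  have hq : IsUnit ((Fintype.card F : ℕ) : ZMod r) := by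
    rw [ZMod.isUnit_iff_coprime]
    exact (Nat.Coprime.symm ((Nat.Prime.coprime_iff_not_dvd Fact.out).2 hr))
  obtain ⟨u, hu⟩ := hq
  rw [orderOf_dvd_iff_pow_eq_one, ← hu]
  rw [← hu] at h2
  have h3 : u ^ A = u ^ B := by
    apply Units.ext
    simpa using h2
  have h4 : u ^ (A - B) = 1 := by
    have : u ^ (A - B) * u ^ B = u ^ B := by rw [← pow_add, Nat.sub_add_cancel hle, h3]
    exact mul_eq_right.mp this
  rw [← Units.val_pow_eq_pow_val, h4, Units.val_one]

omit [Fintype F] in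
theorem finrank_fixSp_lt (y : V →ₗ[F] V) (hy1 : y ≠ 1) :
    Module.finrank F (fixSp y) < Module.finrank F V := by
  apply lt_of_le_of_ne (Submodule.finrank_le _)
  intro h
  apply hy1
  have htop := Submodule.eq_top_of_finrank_eq h
  ext v
  have : v ∈ fixSp y := by rw [htop]; exact Submodule.mem_top
  rw [mem_fixSp] at this
  rw [this]; rfl

/-- commuting elements of prime orders `r`, `s` prime to `q`: the dimension is at least
`lcm k l` or at least `k + l` -/
theorem lcm_or_add_le (y z : V →ₗ[F] V) (hc : y ∘ₗ z = z ∘ₗ y) (r s : ℕ) [Fact r.Prime]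
    [Fact s.Prime] (hy : y ^ r = 1) (hz : z ^ s = 1) (hy1 : y ≠ 1) (hz1 : z ≠ 1)
    (hr : ¬ r ∣ Fintype.card F) (hs : ¬ s ∣ Fintype.card F) :
    Nat.lcm (orderOf ((Fintype.card F : ℕ) : ZMod r)) (orderOf ((Fintype.card F : ℕ) : ZMod s)) ≤
        Module.finrank F V ∨
      orderOf ((Fintype.card F : ℕ) : ZMod r) + orderOf ((Fintype.card F : ℕ) : ZMod s) ≤
        Module.finrank F V := by
  obtain ⟨k, hk⟩ : ∃ k, k = orderOf ((Fintype.card F : ℕ) : ZMod r) := ⟨_, rfl⟩
  obtain ⟨l, hl⟩ : ∃ l, l = orderOf ((Fintype.card F : ℕ) : ZMod s) := ⟨_, rfl⟩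
  rw [← hk, ← hl]
  have h1 := orderOf_dvd_finrank_sub y ⊤ (fun _ _ => Submodule.mem_top) r hy hr
  have h2 := orderOf_dvd_finrank_sub z ⊤ (fun _ _ => Submodule.mem_top) s hz hs
  have h3 := orderOf_dvd_finrank_sub z (fixSp y) (fixSp_invariant y z hc) s hz hs
  have h4 := orderOf_dvd_finrank_sub y (fixSp z) (fixSp_invariant z y hc.symm) r hy hr
  rw [top_inf_eq, finrank_top, ← hk] at h1
  rw [top_inf_eq, finrank_top, ← hl] at h2
  rw [← hl] at h3
  rw [← hk, inf_comm] at h4
  have ha := finrank_fixSp_lt y hy1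
  have hb := finrank_fixSp_lt z hz1
  have hca : Module.finrank F (fixSp y ⊓ fixSp z : Submodule F V) ≤ Module.finrank F (fixSp y) :=
    Submodule.finrank_mono inf_le_left
  have hcb : Module.finrank F (fixSp y ⊓ fixSp z : Submodule F V) ≤ Module.finrank F (fixSp z) :=
    Submodule.finrank_mono inf_le_right
  obtain ⟨n, hn⟩ : ∃ n, n = Module.finrank F V := ⟨_, rfl⟩
  obtain ⟨a, haa⟩ : ∃ a, a = Module.finrank F (fixSp y) := ⟨_, rfl⟩
  obtain ⟨b, hbb⟩ : ∃ b, b = Module.finrank F (fixSp z) := ⟨_, rfl⟩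
  obtain ⟨c, hcc⟩ : ∃ c, c = Module.finrank F (fixSp y ⊓ fixSp z : Submodule F V) := ⟨_, rfl⟩
  rw [← hn, ← haa] at h1 ha
  rw [← hn, ← hbb] at h2 hb
  rw [← haa, ← hcc] at h3 hca
  rw [← hbb, ← hcc] at h4 hcb
  rw [← hn]
  have e1 : k ≤ n - a := Nat.le_of_dvd (by omega) h1
  have e2 : l ≤ n - b := Nat.le_of_dvd (by omega) h2
  by_cases hca' : c < a
  · right
    have e3 : l ≤ a - c := Nat.le_of_dvd (by omega) h3
    omega
  by_cases hcb' : c < b
  · right
    have e4 : k ≤ b - c := Nat.le_of_dvd (by omega) h4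
    omega
  left
  have hab : a = b := by omega
  rw [← hab] at h2
  exact le_trans (Nat.le_of_dvd (by omega) (Nat.lcm_dvd h1 h2)) (by omega)

end Cfsg.Agent.Lib.Helper5.SpecSL
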