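import Mathlib

set_option autoImplicit false

/-! Arithmetic of multiplicative orders modulo primes. -/

namespace Cfsg.Agent.Lib.Helper5.SpecSL

/-- `r ∣ q ^ j - 1` iff the order of `q` modulo `r` divides `j` -/
theorem dvd_pow_sub_one_iff (q r j : ℕ) (hq : 1 ≤ q) :
    r ∣ q ^ j - 1 ↔ orderOf ((q : ℕ) : ZMod r) ∣ j := by
  rw [orderOf_dvd_iff_pow_eq_one, ← ZMod.natCast_eq_zero_iff]
  have h1 : 1 ≤ q ^ j := Nat.one_le_pow _ _ hq
  rw [Nat.cast_sub h1, Nat.cast_pow, Nat.cast_one, sub_eq_zero]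

theorem not_dvd_card_of_ne {F : Type*} [Field F] [Fintype F] (p : ℕ) [Fact p.Prime] [CharP F p]
    (r : ℕ) (hr : r.Prime) (hrp : r ≠ p) : ¬ r ∣ Fintype.card F := by
  obtain ⟨f, -, hf⟩ := FiniteField.card F p
  rw [hf]
  intro h
  have := hr.dvd_of_dvd_pow h
  exact hrp ((Nat.prime_dvd_prime_iff_eq hr Fact.out).mp this)

/-- if the order of `q` modulo `r` is at least `2` then `r ∤ q - 1` -/
theorem not_dvd_sub_one (q r : ℕ) (hq : 1 ≤ q) (hk : 2 ≤ orderOf ((q : ℕ) : ZMod r)) :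
    ¬ r ∣ q - 1 := by
  intro h
  have h1 : r ∣ q ^ 1 - 1 := by rwa [pow_one]
  rw [dvd_pow_sub_one_iff q r 1 hq] at h1
  have := Nat.le_of_dvd one_pos h1
  omega

/-- `lcm k l ≥ k + l` when `k ≤ l` and `k ∤ l` -/
theorem add_le_lcm (k l : ℕ) (hk : 0 < k) (hkl : k ≤ l) (hnd : ¬ k ∣ l) : k + l ≤ Nat.lcm k l := by
  obtain ⟨j, hj⟩ := Nat.dvd_lcm_right k l
  have hpos : 0 < Nat.lcm k l := Nat.lcm_pos hk (by omega)
  have hj0 : j ≠ 0 := by
    rintro rfl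
    rw [mul_zero] at hj
    omega
  have hj1 : j ≠ 1 := by
    rintro rfl
    rw [mul_one] at hj
    apply hnd
    rw [← hj]
    exact Nat.dvd_lcm_left k l
  have : 2 ≤ j := by omega
  rw [hj]
  nlinarith

end Cfsg.Agent.Lib.Helper5.SpecSL
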