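import Mathlib

set_option autoImplicit false

/-! Block-diagonal embedding `GL_a × GL_b → GL_(a+b)` and element orders. -/

namespace Cfsg.Agent.Lib.Helper5.SpecSL

open Matrix

variable {F : Type*} [Field F]

/-- block-diagonal matrices -/
def blockHom (a b : ℕ) :
    Matrix (Fin a) (Fin a) F × Matrix (Fin b) (Fin b) F →* Matrix (Fin (a + b)) (Fin (a + b)) F where
  toFun X := Matrix.reindex finSumFinEquiv finSumFinEquiv (Matrix.fromBlocks X.1 0 0 X.2)
  map_one' := by
    simp [Matrix.fromBlocks_one]
  map_mul' X Y := by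
    simp only [Prod.fst_mul, Prod.snd_mul, Matrix.reindex_apply]
    rw [Matrix.submatrix_mul_equiv, Matrix.fromBlocks_multiply]
    simp

theorem blockHom_injective (a b : ℕ) : Function.Injective (blockHom (F := F) a b) := by
  intro X Y h
  have h' : Matrix.fromBlocks X.1 0 0 X.2 = Matrix.fromBlocks Y.1 (0 : Matrix (Fin a) (Fin b) F)
      (0 : Matrix (Fin b) (Fin a) F) Y.2 :=
    (Matrix.reindex finSumFinEquiv finSumFinEquiv).injective h
  rw [Matrix.fromBlocks_inj] at h'
  exact Prod.ext h'.1 h'.2.2.2

/-- an element of `GL_(a+b)` whose order is the lcm of the orders of given elements of `GL_a`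
and `GL_b` -/
theorem exists_block (a b : ℕ) (A : GL (Fin a) F) (B : GL (Fin b) F) :
    ∃ C : GL (Fin (a + b)) F, orderOf C = Nat.lcm (orderOf A) (orderOf B) := by
  refine ⟨Units.map (blockHom (F := F) a b) (MulEquiv.prodUnits.symm (A, B)), ?_⟩
  rw [orderOf_injective _ (Units.map_injective (blockHom_injective a b)),
    MulEquiv.orderOf_eq, Prod.orderOf]

end Cfsg.Agent.Lib.Helper5.SpecSL
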