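import Mathlib
import Cfsg.Agent.Lib.Helper5.SpecSL.Block

set_option autoImplicit false

/-! The matrices `diag(c, b, b) * (1 ⊕ J)` of `SL_3` and their powers; scalar block matrices. -/

namespace Cfsg.Agent.Lib.Helper5.SpecSL

open Matrix

variable {F : Type*} [Field F]

/-- the matrix `diag(c, b·J)` -/
def dmat (b c : F) : Matrix (Fin 3) (Fin 3) F := !![c, 0, 0; 0, b, b; 0, 0, b]

theorem dmat_det (b c : F) : (dmat b c).det = c * b * b := by
  unfold dmat
  rw [Matrix.det_fin_three]
  simp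

theorem dmat_pow (b c : F) (j : ℕ) :
    dmat b c ^ j = !![c ^ j, 0, 0; 0, b ^ j, (j : F) * b ^ j; 0, 0, b ^ j] := by
  induction j with
  | zero =>
    ext a a'
    fin_cases a <;> fin_cases a' <;> simp
  | succ j ih =>
    rw [pow_succ, ih]
    unfold dmat
    ext a a'
    fin_cases a <;> fin_cases a' <;> simp [Matrix.mul_apply, Fin.sum_univ_three, pow_succ]
    ring

/-- `dmat b c ^ j` is scalar iff `c ^ j = b ^ j` and `j = 0` in `F` -/
theorem dmat_pow_scalar_iff (b c : F) (hb : b ≠ 0) (j : ℕ) (z : F) :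
    dmat b c ^ j = z • (1 : Matrix (Fin 3) (Fin 3) F) ↔ (c ^ j = z ∧ b ^ j = z ∧ (j : F) = 0) := by
  rw [dmat_pow]
  constructor
  · intro h
    have h00 := congrFun (congrFun h 0) 0
    have h11 := congrFun (congrFun h 1) 1
    have h12 := congrFun (congrFun h 1) 2
    simp at h00 h11 h12
    refine ⟨h00, h11, ?_⟩
    rcases h12 with h | h
    · exact h
    · exact absurd h.1 hb
  · rintro ⟨h1, h2, h3⟩
    ext a a'
    fin_cases a <;> fin_cases a' <;> simp [h1, h2, h3]

theorem blockHom_smul_one (a b : ℕ) (z : F) :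
    blockHom (F := F) a b (z • 1, z • 1) = z • 1 := by
  show Matrix.reindex finSumFinEquiv finSumFinEquiv
    (Matrix.fromBlocks (z • (1 : Matrix (Fin a) (Fin a) F)) 0 0
      (z • (1 : Matrix (Fin b) (Fin b) F))) = z • 1
  have h2 : Matrix.fromBlocks (z • (1 : Matrix (Fin a) (Fin a) F)) (0 : Matrix (Fin a) (Fin b) F)
      (0 : Matrix (Fin b) (Fin a) F) (z • (1 : Matrix (Fin b) (Fin b) F)) = z • 1 := by
    rw [← Matrix.fromBlocks_one, Matrix.fromBlocks_smul]
    simp
  rw [h2]
  ext i j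
  simp only [Matrix.reindex_apply, Matrix.submatrix_apply, Matrix.smul_apply, Matrix.one_apply,
    EmbeddingLike.apply_eq_iff_eq]

theorem blockHom_eq_smul_one (a b : ℕ) (A : Matrix (Fin a) (Fin a) F)
    (B : Matrix (Fin b) (Fin b) F) (z : F) (h : blockHom (F := F) a b (A, B) = z • 1) :
    A = z • 1 ∧ B = z • 1 := by
  rw [← blockHom_smul_one] at h
  have := blockHom_injective a b h
  exact ⟨congrArg Prod.fst this, congrArg Prod.snd this⟩

theorem det_blockHom (a b : ℕ) (A : Matrix (Fin a) (Fin a) F) (B : Matrix (Fin b) (Fin b) F) :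
    (blockHom (F := F) a b (A, B)).det = A.det * B.det := by
  show (Matrix.reindex finSumFinEquiv finSumFinEquiv (Matrix.fromBlocks A 0 0 B)).det = _
  rw [Matrix.det_reindex_self, Matrix.det_fromBlocks_zero₂₁]

end Cfsg.Agent.Lib.Helper5.SpecSL
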