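import Mathlib
import Cfsg.Agent.Lib.Helper5.SpecSL.Diag3

set_option autoImplicit false

/-! Elements of order `r * p` of `PSL_n(q)` when `r ∣ q - 1` and `n ≥ 3`. -/

namespace Cfsg.Agent.Lib.Helper5.SpecSL

open Matrix

theorem orderOf_eq_of_forall {G : Type*} [Monoid G] (g : G) (m : ℕ)
    (h : ∀ j : ℕ, g ^ j = 1 ↔ m ∣ j) : orderOf g = m := by
  apply Nat.dvd_antisymm
  · exact orderOf_dvd_of_pow_eq_one ((h m).2 (dvd_refl m))
  · exact (h _).1 (pow_orderOf_eq_one g)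

variable {F : Type*} [Field F] [Fintype F]

/-- elements of `F` of any order dividing `q - 1` -/
theorem exists_orderOf_eq (t : ℕ) (ht : t ∣ Fintype.card F - 1) :
    ∃ b : F, b ≠ 0 ∧ orderOf b = t := by
  have hq : 2 ≤ Fintype.card F := Fintype.one_lt_card
  obtain ⟨g, hg⟩ := IsCyclic.exists_generator (α := Fˣ)
  have hog : orderOf g = Fintype.card F - 1 := by
    rw [← Nat.card_eq_fintype_card (α := F), ← Nat.card_units]
    exact orderOf_eq_card_of_forall_mem_zpowers hg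
  obtain ⟨c, hc⟩ := ht
  have hc0 : c ≠ 0 := by
    rintro rfl
    rw [mul_zero] at hc
    omega
  refine ⟨((g ^ c : Fˣ) : F), Units.ne_zero _, ?_⟩
  rw [orderOf_units, orderOf_pow_of_dvd hc0 (by rw [hog, hc]; exact dvd_mul_left _ _), hog, hc]
  exact Nat.mul_div_cancel _ (Nat.pos_of_ne_zero hc0)

omit [Fintype F] in
theorem mk_pow_eq_one_iff {n : ℕ} (x : Matrix.SpecialLinearGroup (Fin n) F) (j : ℕ) :
    ((x : Matrix.ProjectiveSpecialLinearGroup (Fin n) F)) ^ j = 1 ↔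
      ∃ z : F, z ^ n = 1 ∧ ((x : Matrix (Fin n) (Fin n) F)) ^ j = z • 1 := by
  rw [← QuotientGroup.mk_pow, QuotientGroup.eq_one_iff, Matrix.SpecialLinearGroup.mem_center_iff]
  simp only [Fintype.card_fin]
  constructor
  · rintro ⟨z, hz, h⟩
    refine ⟨z, hz, ?_⟩
    rw [← Matrix.SpecialLinearGroup.coe_pow, ← h, Matrix.scalar_apply,
      Matrix.smul_one_eq_diagonal]
  · rintro ⟨z, hz, h⟩
    refine ⟨z, hz, ?_⟩
    rw [Matrix.SpecialLinearGroup.coe_pow, h, Matrix.scalar_apply, Matrix.smul_one_eq_diagonal]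

omit [Fintype F] in
/-- `n = 3` -/
theorem exists_rp_three (p : ℕ) [Fact p.Prime] [CharP F p] (r : ℕ) (hr : r.Prime) (hrp : r ≠ p)
    (b : F) (hb : b ≠ 0) (hb3 : orderOf (b ^ 3) = r) :
    ∃ x : Matrix.ProjectiveSpecialLinearGroup (Fin 3) F, orderOf x = r * p := by
  have hpp : p.Prime := Fact.out
  obtain ⟨c, hc⟩ : ∃ c : F, c = (b⁻¹) ^ 2 := ⟨_, rfl⟩
  have hdet : (dmat b c).det = 1 := by
    rw [dmat_det, hc]; field_simp
  obtain ⟨x, hx⟩ : ∃ x : Matrix.SpecialLinearGroup (Fin 3) F,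
      (x : Matrix (Fin 3) (Fin 3) F) = dmat b c := ⟨⟨_, hdet⟩, rfl⟩
  refine ⟨(x : Matrix.ProjectiveSpecialLinearGroup (Fin 3) F), ?_⟩
  apply orderOf_eq_of_forall
  intro j
  rw [mk_pow_eq_one_iff, hx]
  have hcb : c ^ j = b ^ j ↔ (b ^ 3) ^ j = 1 := by
    rw [hc]
    have hbj : b ^ j ≠ 0 := pow_ne_zero _ hb
    constructor
    · intro h
      have : ((b⁻¹) ^ 2) ^ j * (b ^ j) ^ 2 = 1 := by
        rw [← pow_mul, ← pow_mul, mul_comm j 2, ← mul_pow, inv_mul_cancel₀ hb, one_pow]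
      rw [h] at this
      rw [← this]; ring
    · intro h
      have : ((b⁻¹) ^ 2) ^ j * (b ^ j) ^ 2 = 1 := by
        rw [← pow_mul, ← pow_mul, mul_comm j 2, ← mul_pow, inv_mul_cancel₀ hb, one_pow]
      have h2 : b ^ j * (b ^ j) ^ 2 = 1 := by rw [← h]; ring
      have h3 : (b ^ j) ^ 2 ≠ 0 := pow_ne_zero _ hbj
      exact mul_right_cancel₀ h3 (this.trans h2.symm)
  constructor
  · rintro ⟨z, -, h⟩
    rw [dmat_pow_scalar_iff b c hb] at h
    obtain ⟨h1, h2, h3⟩ := h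
    have h4 : (b ^ 3) ^ j = 1 := hcb.1 (h1.trans h2.symm)
    have h5 : r ∣ j := by rw [← hb3]; exact orderOf_dvd_of_pow_eq_one h4
    have h6 : p ∣ j := (CharP.cast_eq_zero_iff F p j).1 h3
    exact Nat.Coprime.mul_dvd_of_dvd_of_dvd ((Nat.coprime_primes hr hpp).2 hrp) h5 h6
  · intro h
    have h5 : r ∣ j := (dvd_mul_right r p).trans h
    have h6 : p ∣ j := (dvd_mul_left p r).trans h
    have h4 : (b ^ 3) ^ j = 1 := by
      rw [← hb3] at h5
      exact orderOf_dvd_iff_pow_eq_one.mp h5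
    refine ⟨b ^ j, ?_, ?_⟩
    · rw [← pow_mul, mul_comm, pow_mul]; exact h4
    · rw [dmat_pow_scalar_iff b c hb]
      exact ⟨hcb.2 h4, rfl, (CharP.cast_eq_zero_iff F p j).2 h6⟩

omit [Fintype F] in
/-- `n ≥ 4` -/
theorem exists_rp_four (p : ℕ) [Fact p.Prime] [CharP F p] (r : ℕ) (hr : r.Prime) (hrp : r ≠ p)
    (b : F) (hb : b ≠ 0) (hbr : orderOf b = r) (m : ℕ) :
    ∃ x : Matrix.ProjectiveSpecialLinearGroup (Fin (3 + (m + 1))) F, orderOf x = r * p := by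
  have hpp : p.Prime := Fact.out
  obtain ⟨c, hc⟩ : ∃ c : F, c = (b⁻¹) ^ 2 := ⟨_, rfl⟩
  have hdet : (blockHom (F := F) 3 (m + 1) (dmat b c, 1)).det = 1 := by
    rw [det_blockHom, dmat_det, hc, Matrix.det_one]; field_simp
  obtain ⟨x, hx⟩ : ∃ x : Matrix.SpecialLinearGroup (Fin (3 + (m + 1))) F,
      (x : Matrix (Fin (3 + (m + 1))) (Fin (3 + (m + 1))) F) =
        blockHom (F := F) 3 (m + 1) (dmat b c, 1) := ⟨⟨_, hdet⟩, rfl⟩
  refine ⟨(x : Matrix.ProjectiveSpecialLinearGroup (Fin (3 + (m + 1))) F), ?_⟩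
  apply orderOf_eq_of_forall
  intro j
  rw [mk_pow_eq_one_iff, hx]
  have hpw : (blockHom (F := F) 3 (m + 1) (dmat b c, 1)) ^ j =
      blockHom (F := F) 3 (m + 1) (dmat b c ^ j, 1) := by
    rw [← map_pow]; simp
  rw [hpw]
  have hcj : ∀ j : ℕ, b ^ j = 1 → c ^ j = 1 := by
    intro j hj
    rw [hc, ← pow_mul, mul_comm, pow_mul, inv_pow, hj]; simp
  constructor
  · rintro ⟨z, -, h⟩
    obtain ⟨h1, h2⟩ := blockHom_eq_smul_one _ _ _ _ z h
    have hz : z = 1 := by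
      have := congrFun (congrFun h2 0) 0
      simpa using this.symm
    rw [hz, dmat_pow_scalar_iff b c hb] at h1
    obtain ⟨-, h3, h4⟩ := h1
    have h5 : r ∣ j := by rw [← hbr]; exact orderOf_dvd_of_pow_eq_one h3
    have h6 : p ∣ j := (CharP.cast_eq_zero_iff F p j).1 h4
    exact Nat.Coprime.mul_dvd_of_dvd_of_dvd ((Nat.coprime_primes hr hpp).2 hrp) h5 h6
  · intro h
    have h5 : r ∣ j := (dvd_mul_right r p).trans h
    have h6 : p ∣ j := (dvd_mul_left p r).trans h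
    have h4 : b ^ j = 1 := by
      rw [← hbr] at h5
      exact orderOf_dvd_iff_pow_eq_one.mp h5
    refine ⟨1, one_pow _, ?_⟩
    have : dmat b c ^ j = (1 : F) • (1 : Matrix (Fin 3) (Fin 3) F) := by
      rw [dmat_pow_scalar_iff b c hb]
      exact ⟨hcj j h4, h4, (CharP.cast_eq_zero_iff F p j).2 h6⟩
    rw [this, one_smul, one_smul]
    exact map_one _

end Cfsg.Agent.Lib.Helper5.SpecSL
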