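import Mathlib

set_option autoImplicit false

/-! Elements of `GL_m(q)` of any order dividing `q ^ m - 1` (powers of a Singer cycle). -/

namespace Cfsg.Agent.Lib.Helper5.SpecSL

open Matrix

variable {F : Type*} [Field F] [Fintype F]

theorem exists_gl_orderOf (p : ℕ) [Fact p.Prime] [CharP F p] (m : ℕ) [NeZero m] (t : ℕ)
    (ht : t ∣ Fintype.card F ^ m - 1) : ∃ A : GL (Fin m) F, orderOf A = t := by
  have hq : 2 ≤ Fintype.card F := Fintype.one_lt_card
  have hqm : 2 ≤ Fintype.card F ^ m := by
    calc 2 ≤ Fintype.card F := hq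
      _ = Fintype.card F ^ 1 := (pow_one _).symm
      _ ≤ Fintype.card F ^ m := Nat.pow_le_pow_right (by omega) (NeZero.one_le)
  have hcard : Nat.card (FiniteField.Extension F p m)ˣ = Fintype.card F ^ m - 1 := by
    rw [Nat.card_units, FiniteField.natCard_extension, Nat.card_eq_fintype_card]
  obtain ⟨g, hg⟩ := IsCyclic.exists_generator (α := (FiniteField.Extension F p m)ˣ)
  have hog : orderOf g = Fintype.card F ^ m - 1 := by
    rw [← hcard]
    exact orderOf_eq_card_of_forall_mem_zpowers hg
  obtain ⟨c, hc⟩ := ht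
  have hc0 : c ≠ 0 := by
    rintro rfl
    rw [mul_zero] at hc
    omega
  have ht0 : t ≠ 0 := by
    rintro rfl
    rw [zero_mul] at hc
    omega
  have hoz : orderOf (g ^ c) = t := by
    rw [orderOf_pow_of_dvd hc0 (by rw [hog, hc]; exact dvd_mul_left _ _), hog, hc]
    exact Nat.mul_div_cancel _ (Nat.pos_of_ne_zero hc0)
  have b : Module.Basis (Fin m) F (FiniteField.Extension F p m) :=
    Module.finBasisOfFinrankEq F _ (FiniteField.finrank_extension F p m)
  refine ⟨Units.map (Algebra.leftMulMatrix b).toRingHom.toMonoidHom (g ^ c), ?_⟩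
  rw [← hoz]
  apply orderOf_injective
  apply Units.map_injective
  exact Algebra.leftMulMatrix_injective b

end Cfsg.Agent.Lib.Helper5.SpecSL
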