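import Mathlib

set_option autoImplicit false

/-! Element orders prime to `q - 1` are the same in `PSL_n(q)` and in `SL_n(q)`. -/

namespace Cfsg.Agent.Lib.Helper5.SpecSL

open Matrix

variable {F : Type*} [Field F] [Fintype F] {n : ℕ}

theorem center_pow_card_sub_one (c : Matrix.SpecialLinearGroup (Fin n) F)
    (hc : c ∈ Subgroup.center (Matrix.SpecialLinearGroup (Fin n) F)) :
    c ^ (Fintype.card F - 1) = 1 := by
  by_cases hn : n = 0
  · subst hn
    exact Subsingleton.elim _ _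
  obtain ⟨a, ha, hca⟩ := Matrix.SpecialLinearGroup.mem_center_iff.mp hc
  have ha0 : a ≠ 0 := by
    rintro rfl
    rw [Fintype.card_fin, zero_pow hn] at ha
    exact zero_ne_one ha
  apply Subtype.ext
  rw [Matrix.SpecialLinearGroup.coe_pow, ← hca, Matrix.SpecialLinearGroup.coe_one]
  rw [← map_pow, FiniteField.pow_card_sub_one_eq_one a ha0, map_one]

/-- element orders prime to `q - 1`: from `PSL` to `SL` -/
theorem exists_sl_of_psl (m : ℕ) (hm : Nat.Coprime m (Fintype.card F - 1))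
    (x : Matrix.ProjectiveSpecialLinearGroup (Fin n) F) (hx : orderOf x = m) :
    ∃ y : Matrix.SpecialLinearGroup (Fin n) F, orderOf y = m := by
  obtain ⟨x0, rfl⟩ := QuotientGroup.mk_surjective x
  have h1 : x0 ^ m ∈ Subgroup.center (Matrix.SpecialLinearGroup (Fin n) F) := by
    rw [← QuotientGroup.eq_one_iff, QuotientGroup.mk_pow, ← hx, pow_orderOf_eq_one]
  refine ⟨x0 ^ (Fintype.card F - 1), ?_⟩
  have h2 : (x0 ^ (Fintype.card F - 1)) ^ m = 1 := by
    rw [← pow_mul, mul_comm, pow_mul]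
    exact center_pow_card_sub_one _ h1
  have h3 : orderOf (x0 ^ (Fintype.card F - 1)) ∣ m := orderOf_dvd_of_pow_eq_one h2
  have h4 : orderOf ((x0 : Matrix.ProjectiveSpecialLinearGroup (Fin n) F) ^
      (Fintype.card F - 1)) = m := by
    rw [← hx]
    apply Nat.Coprime.orderOf_pow
    rw [hx]; exact hm
  have h5 : m ∣ orderOf (x0 ^ (Fintype.card F - 1)) := by
    rw [← h4, ← QuotientGroup.mk_pow]
    exact orderOf_map_dvd (QuotientGroup.mk' _) _
  exact Nat.dvd_antisymm h3 h5

/-- element orders prime to `q - 1`: from `SL` to `PSL` -/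
theorem exists_psl_of_sl (m : ℕ) (hm : Nat.Coprime m (Fintype.card F - 1))
    (y : Matrix.SpecialLinearGroup (Fin n) F) (hy : orderOf y = m) :
    ∃ x : Matrix.ProjectiveSpecialLinearGroup (Fin n) F, orderOf x = m := by
  refine ⟨(y : Matrix.ProjectiveSpecialLinearGroup (Fin n) F), ?_⟩
  have h1 : orderOf (y : Matrix.ProjectiveSpecialLinearGroup (Fin n) F) ∣ m := by
    rw [← hy]
    exact orderOf_map_dvd (QuotientGroup.mk' _) _
  obtain ⟨j, hj⟩ : ∃ j, j = orderOf (y : Matrix.ProjectiveSpecialLinearGroup (Fin n) F) :=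
    ⟨_, rfl⟩
  rw [← hj] at h1 ⊢
  have h2 : y ^ j ∈ Subgroup.center (Matrix.SpecialLinearGroup (Fin n) F) := by
    rw [← QuotientGroup.eq_one_iff, QuotientGroup.mk_pow, hj, pow_orderOf_eq_one]
  have h3 : y ^ (j * (Fintype.card F - 1)) = 1 := by
    rw [pow_mul]; exact center_pow_card_sub_one _ h2
  have h4 : m ∣ j * (Fintype.card F - 1) := by
    rw [← hy]; exact orderOf_dvd_of_pow_eq_one h3
  exact Nat.dvd_antisymm h1 (hm.dvd_of_dvd_mul_right h4)

end Cfsg.Agent.Lib.Helper5.SpecSL
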