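import Mathlib
import Cfsg.Agent.Lib.Helper5.SpecSL.Count

set_option autoImplicit false

/-! A semisimple element of prime order `r` commuting with a non-trivial `p`-element of `GL_n(q)`,
where the order `k` of `q` modulo `r` is at least `2`: then `n ≥ k + 2`. -/

namespace Cfsg.Agent.Lib.Helper5.SpecSL

variable {F : Type*} [Field F] [Fintype F] {V : Type*} [AddCommGroup V] [Module F V] [Finite V]

/-- a `p`-element has a non-zero fixed vector in every non-zero invariant subspace -/
theorem finrank_inf_fixSp_pos (u : V →ₗ[F] V) (W : Submodule F V) (hW : ∀ w ∈ W, u w ∈ W) (p : ℕ)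
    [Fact p.Prime] (hu : u ^ p = 1) (hp : p ∣ Fintype.card F) (hWpos : 0 < Module.finrank F W) :
    0 < Module.finrank F (W ⊓ fixSp u : Submodule F V) := by
  by_contra h0
  have h0' : Module.finrank F (W ⊓ fixSp u : Submodule F V) = 0 := by omega
  have h1 := card_modEq u W hW p hu
  rw [card_submodule, card_submodule, h0', pow_zero] at h1
  have h2 : p ∣ Fintype.card F ^ Module.finrank F W := dvd_pow hp (by omega)
  have h3 : Fintype.card F ^ Module.finrank F W % p = 0 := Nat.mod_eq_zero_of_dvd h2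
  have h4 : (1 : ℕ) % p = 0 := by
    have : Fintype.card F ^ Module.finrank F W % p = 1 % p := h1
    rw [← this, h3]
  have hp2 : 2 ≤ p := (Fact.out : p.Prime).two_le
  rw [Nat.mod_eq_of_lt (by omega)] at h4
  omega

omit [Fintype F] [Finite V] in
theorem range_sub_one_invariant (u h : V →ₗ[F] V) (hc : h ∘ₗ u = u ∘ₗ h) (w : V)
    (hw : w ∈ LinearMap.range (u - 1)) : h w ∈ LinearMap.range (u - 1) := by
  obtain ⟨v, rfl⟩ := hw
  refine ⟨h v, ?_⟩
  have := LinearMap.congr_fun hc v
  simp only [LinearMap.comp_apply] at this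
  simp only [LinearMap.sub_apply, Module.End.one_apply, map_sub, this]

theorem add_two_le_finrank (y u : V →ₗ[F] V) (hc : y ∘ₗ u = u ∘ₗ y) (r p : ℕ) [Fact r.Prime]
    [Fact p.Prime] (hy : y ^ r = 1) (hu : u ^ p = 1) (hy1 : y ≠ 1) (hu1 : u ≠ 1)
    (hr : ¬ r ∣ Fintype.card F) (hp : p ∣ Fintype.card F)
    (hk : 2 ≤ orderOf ((Fintype.card F : ℕ) : ZMod r)) :
    orderOf ((Fintype.card F : ℕ) : ZMod r) + 2 ≤ Module.finrank F V := by
  obtain ⟨k, hkk⟩ : ∃ k, k = orderOf ((Fintype.card F : ℕ) : ZMod r) := ⟨_, rfl⟩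
  rw [← hkk] at hk ⊢
  have h1 := orderOf_dvd_finrank_sub y ⊤ (fun _ _ => Submodule.mem_top) r hy hr
  have h3 := orderOf_dvd_finrank_sub y (fixSp u) (fixSp_invariant u y hc.symm) r hy hr
  have h5 := orderOf_dvd_finrank_sub y (LinearMap.range (u - 1))
    (range_sub_one_invariant u y hc) r hy hr
  rw [top_inf_eq, finrank_top, ← hkk] at h1
  rw [← hkk, inf_comm] at h3
  rw [← hkk] at h5
  have ha := finrank_fixSp_lt y hy1
  have hb := finrank_fixSp_lt u hu1
  have hcb : Module.finrank F (fixSp y ⊓ fixSp u : Submodule F V) ≤ Module.finrank F (fixSp u) :=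
    Submodule.finrank_mono inf_le_right
  have hca : Module.finrank F (fixSp y ⊓ fixSp u : Submodule F V) ≤ Module.finrank F (fixSp y) :=
    Submodule.finrank_mono inf_le_left
  have hc'a : Module.finrank F (LinearMap.range (u - 1) ⊓ fixSp y : Submodule F V) ≤
      Module.finrank F (fixSp y) := Submodule.finrank_mono inf_le_right
  -- facts about the `p`-element
  have P1 : 0 < Module.finrank F (fixSp u) := by
    have := finrank_inf_fixSp_pos u ⊤ (fun _ _ => Submodule.mem_top) p hu hp
      (by rw [finrank_top]; omega)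
    rwa [top_inf_eq] at this
  have P2 : 0 < Module.finrank F (fixSp y) →
      0 < Module.finrank F (fixSp y ⊓ fixSp u : Submodule F V) :=
    fun h => finrank_inf_fixSp_pos u (fixSp y) (fixSp_invariant y u hc) p hu hp h
  have P3 : 0 < Module.finrank F (LinearMap.range (u - 1)) →
      0 < Module.finrank F (LinearMap.range (u - 1) ⊓ fixSp u : Submodule F V) :=
    fun h => finrank_inf_fixSp_pos u _ (range_sub_one_invariant u u rfl) p hu hp h
  have hrn : Module.finrank F (LinearMap.range (u - 1)) + Module.finrank F (fixSp u) =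
      Module.finrank F V := LinearMap.finrank_range_add_finrank_ker (u - 1)
  by_contra hcon
  obtain ⟨n, hn⟩ : ∃ n, n = Module.finrank F V := ⟨_, rfl⟩
  obtain ⟨a, haa⟩ : ∃ a, a = Module.finrank F (fixSp y) := ⟨_, rfl⟩
  obtain ⟨b, hbb⟩ : ∃ b, b = Module.finrank F (fixSp u) := ⟨_, rfl⟩
  obtain ⟨c, hcc⟩ : ∃ c, c = Module.finrank F (fixSp y ⊓ fixSp u : Submodule F V) := ⟨_, rfl⟩
  obtain ⟨ρ, hρ⟩ : ∃ ρ, ρ = Module.finrank F (LinearMap.range (u - 1)) := ⟨_, rfl⟩
  obtain ⟨c', hc'⟩ : ∃ c', c' = Module.finrank F (LinearMap.range (u - 1) ⊓ fixSp y :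
    Submodule F V) := ⟨_, rfl⟩
  rw [← hn, ← haa] at h1 ha
  rw [← hn, ← hbb] at hb
  rw [← hbb, ← hcc] at h3 hcb
  rw [← haa, ← hcc] at hca
  rw [← hρ, ← hc'] at h5
  rw [← hc', ← haa] at hc'a
  rw [← hbb] at P1
  rw [← haa, ← hcc] at P2
  rw [← hρ, ← hbb, ← hn] at hrn
  rw [← hn] at hcon
  have e1 : k ≤ n - a := Nat.le_of_dvd (by omega) h1
  by_cases hcb' : c < b
  · have e3 : k ≤ b - c := Nat.le_of_dvd (by omega) h3
    have hbk : b = k := by omega
    have hc0 : c = 0 := by omega
    have hnk : n = k + 1 := by omega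
    by_cases ha0 : a = 0
    · rw [ha0, Nat.sub_zero, hnk] at h1
      have : k ∣ 1 := (Nat.dvd_add_right (dvd_refl k)).mp h1
      have := Nat.le_of_dvd one_pos this
      omega
    · have := P2 (by omega)
      omega
  · have hcb2 : c = b := by omega
    have ha1 : a = 1 := by omega
    have hc1 : c = 1 := by omega
    have hnk : n = k + 1 := by omega
    have hρk : ρ = k := by omega
    -- `c' = 0`
    have hc'0 : c' = 0 := by
      by_contra hne
      have hc'1 : c' = 1 := by omega
      rw [hρk, hc'1] at h5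
      have := Nat.le_of_dvd (by omega) h5
      omega
    -- `fixSp u ≤ fixSp y`
    have hle : fixSp u ≤ fixSp y := by
      have heq : (fixSp y ⊓ fixSp u : Submodule F V) = fixSp u :=
        Submodule.eq_of_le_of_finrank_eq inf_le_right (by rw [← hcc, ← hbb, hcb2])
      rw [← heq]
      exact inf_le_left
    have h6 := P3 (by rw [← hρ]; omega)
    have h7 : Module.finrank F (LinearMap.range (u - 1) ⊓ fixSp u : Submodule F V) ≤ c' := by
      rw [hc']
      exact Submodule.finrank_mono (inf_le_inf_left _ hle)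
    omega

end Cfsg.Agent.Lib.Helper5.SpecSL
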