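import Mathlib
import Cfsg.Agent.Lib.Helper5.SpecSL.Arith
import Cfsg.Agent.Lib.Helper5.SpecSL.Lift
import Cfsg.Agent.Lib.Helper5.SpecSL.NoRP

set_option autoImplicit false

/-! No element of order `r * p` in `PSL_n(q)` when `n < k + 2`, `k ≥ 2`. -/

namespace Cfsg.Agent.Lib.Helper5.SpecSL

open Matrix

variable {F : Type*} [Field F] [Fintype F]

/-- the linear map of a matrix of determinant `1`, with the same power relations -/
theorem exists_lin_of_sl {n : ℕ} (y : Matrix.SpecialLinearGroup (Fin n) F) :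
    ∃ Y : Module.End F (Fin n → F), ∀ j : ℕ, Y ^ j = 1 ↔ y ^ j = 1 := by
  refine ⟨Matrix.toLinAlgEquiv' (y : Matrix (Fin n) (Fin n) F), ?_⟩
  intro j
  rw [← map_pow, ← Matrix.SpecialLinearGroup.coe_pow]
  constructor
  · intro h
    apply Subtype.ext
    rw [Matrix.SpecialLinearGroup.coe_one]
    apply Matrix.toLinAlgEquiv'.injective
    rw [h, map_one]
  · intro h
    rw [h, Matrix.SpecialLinearGroup.coe_one, map_one]

/-- powers of an element of order `a * b` -/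
theorem pow_facts {M : Type*} [Monoid M] (Y : M) (a b : ℕ) (ha : 2 ≤ a) (hb : 2 ≤ b)
    (h1 : Y ^ (a * b) = 1) (h2 : ∀ j : ℕ, Y ^ j = 1 → a * b ∣ j) :
    (Y ^ b) ^ a = 1 ∧ (Y ^ a) ^ b = 1 ∧ Y ^ b ≠ 1 ∧ Y ^ a ≠ 1 := by
  refine ⟨by rw [← pow_mul, mul_comm]; exact h1, by rw [← pow_mul]; exact h1, ?_, ?_⟩
  · intro h
    have := Nat.le_of_dvd (by omega) (h2 b h)
    nlinarith
  · intro h
    have := Nat.le_of_dvd (by omega) (h2 a h)
    nlinarith

theorem not_dvd_sub_one_of_dvd (q p : ℕ) (hq : 1 ≤ q) (hp : p.Prime) (hpq : p ∣ q) :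
    ¬ p ∣ q - 1 := by
  intro h
  have : p ∣ q - (q - 1) := Nat.dvd_sub hpq h
  have h1 : q - (q - 1) = 1 := by omega
  rw [h1] at this
  have := Nat.le_of_dvd one_pos this
  have := hp.two_le
  omega

theorem no_element_rp (p : ℕ) [Fact p.Prime] [CharP F p] (n : ℕ) (r : ℕ) (hr : r.Prime)
    (hrp : r ≠ p) (hk : 2 ≤ orderOf ((Fintype.card F : ℕ) : ZMod r))
    (hn : n < orderOf ((Fintype.card F : ℕ) : ZMod r) + 2)
    (x : Matrix.ProjectiveSpecialLinearGroup (Fin n) F) : orderOf x ≠ r * p := by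
  intro hx
  have hpp : p.Prime := Fact.out
  have hq : 1 ≤ Fintype.card F := Fintype.card_pos
  have hrq := not_dvd_card_of_ne (F := F) p r hr hrp
  have hpq : p ∣ Fintype.card F := by
    obtain ⟨f, -, hf⟩ := FiniteField.card F p
    rw [hf]
    exact dvd_pow_self p f.ne_zero
  have hcop : Nat.Coprime (r * p) (Fintype.card F - 1) :=
    Nat.Coprime.mul_left ((Nat.Prime.coprime_iff_not_dvd hr).2 (not_dvd_sub_one _ r hq hk))
      ((Nat.Prime.coprime_iff_not_dvd hpp).2 (not_dvd_sub_one_of_dvd _ p hq hpp hpq))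
  obtain ⟨y, hy⟩ := exists_sl_of_psl (r * p) hcop x hx
  have hrF : Fact r.Prime := ⟨hr⟩
  obtain ⟨Y, hpow⟩ := exists_lin_of_sl y
  have hYrp : Y ^ (r * p) = 1 := (hpow _).2 (by rw [← hy]; exact pow_orderOf_eq_one y)
  have hdiv : ∀ j : ℕ, Y ^ j = 1 → r * p ∣ j := by
    intro j hj
    rw [← hy]
    exact orderOf_dvd_of_pow_eq_one ((hpow j).1 hj)
  obtain ⟨h1, h2, h3, h4⟩ := pow_facts Y r p hr.two_le hpp.two_le hYrp hdiv
  have hc : (Y ^ p) ∘ₗ (Y ^ r) = (Y ^ r) ∘ₗ (Y ^ p) := by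
    rw [← Module.End.mul_eq_comp, ← Module.End.mul_eq_comp, ← pow_add, ← pow_add, add_comm]
  have key := add_two_le_finrank (Y ^ p) (Y ^ r) hc r p h1 h2 h3 h4 hrq hpq hk
  rw [Module.finrank_fin_fun] at key
  omega

end Cfsg.Agent.Lib.Helper5.SpecSL
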