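import Mathlib

set_option autoImplicit false

/-! Cayley–Hamilton for `3 × 3` matrices, explicitly. -/

namespace Cfsg.Agent.Lib.Helper5.SpecSL

open Matrix

variable {F : Type*} [Field F]

/-- the second coefficient of the characteristic polynomial -/
def c2 (M : Matrix (Fin 3) (Fin 3) F) : F :=
  M 0 0 * M 1 1 + M 0 0 * M 2 2 + M 1 1 * M 2 2 - M 0 1 * M 1 0 - M 0 2 * M 2 0 - M 1 2 * M 2 1

set_option maxHeartbeats 1600000 in
theorem cayley3 (M : Matrix (Fin 3) (Fin 3) F) :
    M * M * M = M.trace • (M * M) - c2 M • M + M.det • (1 : Matrix (Fin 3) (Fin 3) F) := by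
  rw [Matrix.trace_fin_three, Matrix.det_fin_three]
  unfold c2
  ext i j
  fin_cases i <;> fin_cases j <;>
    simp [Matrix.mul_apply, Fin.sum_univ_three] <;> ring

end Cfsg.Agent.Lib.Helper5.SpecSL
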