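import Mathlib
import Cfsg.Agent.Lib.Helper5.SpecSL.CH3

set_option autoImplicit false

/-! A non-scalar element `Y` of `SL_3` with `Y³ = 1` (characteristic not `3`, cube roots of unity
in the field) commutes with no non-trivial `p`-element. -/

namespace Cfsg.Agent.Lib.Helper5.SpecSL

open Matrix

variable {F : Type*} [Field F]

theorem trace_eq_zero_of_cube (Y : Matrix (Fin 3) (Fin 3) F) (hdet : Y.det = 1)
    (hY : Y * Y * Y = 1) (hns : ∀ c : F, Y ≠ c • (1 : Matrix (Fin 3) (Fin 3) F)) :
    Y.trace = 0 := by
  by_contra ht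
  have hC := cayley3 Y
  rw [hY, hdet, one_smul] at hC
  have h1 : Y.trace • (Y * Y) = c2 Y • Y := by
    have : Y.trace • (Y * Y) - c2 Y • Y = 0 := by
      have := congrArg (fun Z => Z - 1) hC
      simp only [sub_self, add_sub_cancel_right] at this
      exact this.symm
    exact sub_eq_zero.mp this
  have h2 : Y.trace • Y = c2 Y • (1 : Matrix (Fin 3) (Fin 3) F) := by
    have := congrArg (fun Z => Z * (Y * Y)) h1
    simp only [smul_mul_assoc] at this
    have e1 : Y * Y * (Y * Y) = Y := by
      rw [← mul_assoc, hY, one_mul]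
    have e2 : Y * (Y * Y) = 1 := by rw [← mul_assoc, hY]
    rw [e1, e2] at this
    exact this
  apply hns (Y.trace⁻¹ * c2 Y)
  rw [mul_smul, ← h2, smul_smul, inv_mul_cancel₀ ht, one_smul]

/-- the spectral idempotent of `a` with `a³ = 1` -/
noncomputable def specP (a : Matrix (Fin 3) (Fin 3) F) : Matrix (Fin 3) (Fin 3) F :=
  (3 : F)⁻¹ • (1 + a + a * a)

theorem specP_idem (h3 : (3 : F) ≠ 0) (a : Matrix (Fin 3) (Fin 3) F) (ha : a * a * a = 1) :
    specP a * specP a = specP a := by
  have ha' : a * (a * a) = 1 := by rw [← mul_assoc, ha]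
  have key : (1 + a + a * a) * (1 + a + a * a) = (3 : F) • (1 + a + a * a) := by
    simp only [add_mul, mul_add, one_mul, mul_one, mul_assoc, ha']
    module
  unfold specP
  rw [smul_mul_smul_comm, key, smul_smul, mul_assoc, inv_mul_cancel₀ h3, mul_one]

theorem mul_specP (a : Matrix (Fin 3) (Fin 3) F) (ha : a * a * a = 1) :
    a * specP a = specP a := by
  have ha' : a * (a * a) = 1 := by rw [← mul_assoc, ha]
  unfold specP
  rw [mul_smul_comm]
  congr 1
  simp only [mul_add, mul_one, ha']
  abel

theorem trace_specP (h3 : (3 : F) ≠ 0) (a : Matrix (Fin 3) (Fin 3) F) (h1 : a.trace = 0)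
    (h2 : (a * a).trace = 0) : (specP a).trace = 1 := by
  unfold specP
  rw [trace_smul, trace_add, trace_add, h1, h2, trace_one]
  simp
  field_simp

/-- an idempotent of trace `1`, not the identity, has rank `1` -/
theorem finrank_range_eq_one (P : Matrix (Fin 3) (Fin 3) F) (hP : P * P = P) (ht : P.trace = 1)
    (hP1 : P ≠ 1) : Module.finrank F (LinearMap.range (Matrix.toLin' P)) = 1 := by
  have hid : IsIdempotentElem (Matrix.toLin' P) := by
    show Matrix.toLin' P * Matrix.toLin' P = Matrix.toLin' P
    rw [Module.End.mul_eq_comp, ← Matrix.toLin'_mul, hP]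
  have h1 := ((LinearMap.isProj_range_iff_isIdempotentElem _).mpr hid).trace
  rw [Matrix.trace_toLin'_eq, ht] at h1
  have hle : Module.finrank F (LinearMap.range (Matrix.toLin' P)) ≤ 3 := by
    have := Submodule.finrank_le (LinearMap.range (Matrix.toLin' P))
    rwa [Module.finrank_fin_fun] at this
  obtain ⟨d, hd⟩ : ∃ d, d = Module.finrank F (LinearMap.range (Matrix.toLin' P)) := ⟨_, rfl⟩
  rw [← hd] at h1 hle ⊢
  interval_cases d
  · simp at h1
  · rfl
  · exfalso
    have : (1 : F) = 0 := by
      have h2 : ((2 : ℕ) : F) = 2 := by norm_num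
      rw [h2] at h1
      linear_combination -h1
    exact one_ne_zero this
  · exfalso
    apply hP1
    have htop : LinearMap.range (Matrix.toLin' P) = ⊤ := by
      apply Submodule.eq_top_of_finrank_eq
      rw [← hd, Module.finrank_fin_fun]
    have hfix : ∀ v, Matrix.toLin' P v = v := by
      intro v
      have hv : v ∈ LinearMap.range (Matrix.toLin' P) := by rw [htop]; exact Submodule.mem_top
      obtain ⟨w, rfl⟩ := hv
      have := LinearMap.congr_fun hid w
      simpa using this
    apply Matrix.toLin'.injective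
    apply LinearMap.ext
    intro v
    rw [hfix, Matrix.toLin'_one]
    rfl

end Cfsg.Agent.Lib.Helper5.SpecSL
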