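import Mathlib
import Cfsg.Agent.Lib.Helper5.SpecSL.Exc3A
import Cfsg.Agent.Lib.Helper5.SpecSL.NoRP

set_option autoImplicit false

/-! In `SL_3(q)` with `3 ∥ q - 1`, an element whose cube is scalar but which is not itself scalar
commutes with no non-trivial `p`-element. -/

namespace Cfsg.Agent.Lib.Helper5.SpecSL

open Matrix

variable {F : Type*} [Field F] [Fintype F]

/-- a `p`-element commuting with a rank one idempotent fixes its image -/
theorem mul_eq_of_rank_one (p : ℕ) [Fact p.Prime] (hp : p ∣ Fintype.card F)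
    (P U : Matrix (Fin 3) (Fin 3) F) (hP : P * P = P) (ht : P.trace = 1) (hP1 : P ≠ 1)
    (hc : U * P = P * U) (hU : U ^ p = 1) : U * P = P := by
  have hrk := finrank_range_eq_one P hP ht hP1
  have hinv : ∀ w ∈ LinearMap.range (Matrix.toLin' P), Matrix.toLin' U w ∈
      LinearMap.range (Matrix.toLin' P) := by
    rintro w ⟨v, rfl⟩
    refine ⟨Matrix.toLin' U v, ?_⟩
    rw [← LinearMap.comp_apply, ← LinearMap.comp_apply, ← Matrix.toLin'_mul, ← Matrix.toLin'_mul,
      hc]
  have hu : (Matrix.toLin' U) ^ p = 1 := by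
    rw [← Matrix.toLin'_pow, hU, Matrix.toLin'_one]; rfl
  have hpos := finrank_inf_fixSp_pos (Matrix.toLin' U) (LinearMap.range (Matrix.toLin' P)) hinv p
    hu hp (by rw [hrk]; exact Nat.one_pos)
  have heq : (LinearMap.range (Matrix.toLin' P) ⊓ fixSp (Matrix.toLin' U) : Submodule F _) =
      LinearMap.range (Matrix.toLin' P) := by
    apply Submodule.eq_of_le_of_finrank_eq inf_le_left
    have := Submodule.finrank_mono (inf_le_left :
      (LinearMap.range (Matrix.toLin' P) ⊓ fixSp (Matrix.toLin' U) : Submodule F _) ≤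
        LinearMap.range (Matrix.toLin' P))
    omega
  apply Matrix.toLin'.injective
  apply LinearMap.ext
  intro v
  have hv : Matrix.toLin' P v ∈ fixSp (Matrix.toLin' U) := by
    have : Matrix.toLin' P v ∈ (LinearMap.range (Matrix.toLin' P) ⊓ fixSp (Matrix.toLin' U) :
        Submodule F _) := by
      rw [heq]; exact ⟨v, rfl⟩
    exact this.2
  rw [mem_fixSp] at hv
  rw [Matrix.toLin'_mul, LinearMap.comp_apply, hv]

omit [Fintype F] in
theorem specP_smul_props (Y : Matrix (Fin 3) (Fin 3) F) (hdet : Y.det = 1)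
    (hY : Y * Y * Y = 1) (hns : ∀ c : F, Y ≠ c • (1 : Matrix (Fin 3) (Fin 3) F))
    (h3 : (3 : F) ≠ 0) (ζ : F) (hζ : ζ ^ 3 = 1) :
    specP (ζ • Y) * specP (ζ • Y) = specP (ζ • Y) ∧ (specP (ζ • Y)).trace = 1 ∧
      specP (ζ • Y) ≠ 1 := by
  have ht1 : Y.trace = 0 := trace_eq_zero_of_cube Y hdet hY hns
  have hY4 : Y * Y * (Y * Y) = Y := by
    rw [← mul_assoc, hY, one_mul]
  have ht2 : (Y * Y).trace = 0 := by
    apply trace_eq_zero_of_cube (Y * Y)
    · rw [det_mul, hdet, one_mul]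
    · rw [hY4, ← mul_assoc, hY]
    · intro c hc
      apply hns (c * c)
      rw [← hY4, hc, smul_mul_smul_comm, one_mul]
  have ha : (ζ • Y) * (ζ • Y) * (ζ • Y) = 1 := by
    rw [smul_mul_smul_comm, smul_mul_smul_comm, hY]
    have : ζ * ζ * ζ = 1 := by rw [← hζ]; ring
    rw [this, one_smul]
  refine ⟨specP_idem h3 _ ha, ?_, ?_⟩
  · apply trace_specP h3
    · rw [trace_smul, ht1, smul_zero]
    · rw [smul_mul_smul_comm, trace_smul, ht2, smul_zero]
  · intro h1
    have h2 := mul_specP (ζ • Y) ha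
    rw [h1, mul_one] at h2
    apply hns (ζ * ζ)
    have : (ζ * ζ) • (ζ • Y) = Y := by
      rw [smul_smul]
      have : ζ * ζ * ζ = 1 := by rw [← hζ]; ring
      rw [this, one_smul]
    rw [← this, h2]

omit [Fintype F] in
theorem specP_sum (Y : Matrix (Fin 3) (Fin 3) F) (h3 : (3 : F) ≠ 0) (ω : F)
    (hω : 1 + ω + ω * ω = 0) :
    specP ((1 : F) • Y) + specP (ω • Y) + specP ((ω * ω) • Y) = 1 := by
  have hω3 : ω * ω * ω = 1 := by linear_combination (ω - 1) * hω
  unfold specP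
  rw [← smul_add, ← smul_add]
  simp only [smul_mul_smul_comm, one_smul]
  have e1 : ω * ω * (ω * ω) = ω := by rw [← mul_assoc, hω3, one_mul]
  rw [e1]
  have : (1 + Y + Y * Y + (1 + ω • Y + (ω * ω) • (Y * Y)) + (1 + (ω * ω) • Y + ω • (Y * Y))) =
      (3 : F) • (1 : Matrix (Fin 3) (Fin 3) F) + (1 + ω + ω * ω) • Y +
        (1 + ω + ω * ω) • (Y * Y) := by
    module
  rw [this, hω, zero_smul, zero_smul, add_zero, add_zero, smul_smul, inv_mul_cancel₀ h3, one_smul]

/-- the case of cube `1` -/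
theorem eq_one_of_commute_cube_one (p : ℕ) [Fact p.Prime] (hp : p ∣ Fintype.card F)
    (h3 : (3 : F) ≠ 0) (ω : F) (hω : 1 + ω + ω * ω = 0)
    (Y U : Matrix (Fin 3) (Fin 3) F) (hdet : Y.det = 1)
    (hY : Y * Y * Y = 1) (hns : ∀ c : F, Y ≠ c • (1 : Matrix (Fin 3) (Fin 3) F))
    (hc : U * Y = Y * U) (hU : U ^ p = 1) : U = 1 := by
  have hω3 : ω * ω * ω = 1 := by linear_combination (ω - 1) * hω
  have hcomm : ∀ ζ : F, U * specP (ζ • Y) = specP (ζ • Y) * U := by
    intro ζ
    unfold specP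
    rw [mul_smul_comm, smul_mul_assoc]
    simp only [mul_add, add_mul, mul_one, one_mul, mul_smul_comm, smul_mul_assoc]
    have e1 : U * (Y * Y) = Y * Y * U := by
      rw [← mul_assoc, hc, mul_assoc, hc, mul_assoc]
    rw [hc, e1]
  have key : ∀ ζ : F, ζ ^ 3 = 1 → U * specP (ζ • Y) = specP (ζ • Y) := by
    intro ζ hζ
    obtain ⟨h1, h2, h3'⟩ := specP_smul_props Y hdet hY hns h3 ζ hζ
    exact mul_eq_of_rank_one p hp _ U h1 h2 h3' (hcomm ζ) hU
  have hs := specP_sum Y h3 ω hω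
  calc U = U * (specP ((1 : F) • Y) + specP (ω • Y) + specP ((ω * ω) • Y)) := by
        rw [hs, mul_one]
    _ = specP ((1 : F) • Y) + specP (ω • Y) + specP ((ω * ω) • Y) := by
        rw [mul_add, mul_add, key 1 (one_pow 3), key ω (by rw [← hω3]; ring),
          key (ω * ω) (by
            have : (ω * ω) ^ 3 = (ω * ω * ω) ^ 2 := by ring
            rw [this, hω3, one_pow])]
    _ = 1 := hs

end Cfsg.Agent.Lib.Helper5.SpecSL
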