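import Mathlib
import Cfsg.Agent.Lib.Helper5.SpecSL.Exc3B
import Cfsg.Agent.Lib.Helper5.SpecSL.ExistK1

set_option autoImplicit false

/-! `PSL_3(q)` with `3 ∥ q - 1` has no element of order `3p`. -/

namespace Cfsg.Agent.Lib.Helper5.SpecSL

open Matrix

variable {F : Type*} [Field F] [Fintype F]

/-- the case of cube a non-trivial scalar -/
theorem false_of_commute_cube_ne_one (p : ℕ) [Fact p.Prime] (hp : p ∣ Fintype.card F)
    (h9 : ¬ 9 ∣ Fintype.card F - 1) (z : F) (hz1 : z ≠ 1) (hz3 : z ^ 3 = 1)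
    (Y U : Matrix (Fin 3) (Fin 3) F) (hY : Y * Y * Y = z • (1 : Matrix (Fin 3) (Fin 3) F))
    (hc : U * Y = Y * U) (hU : U ^ p = 1) (hU1 : U ≠ 1) : False := by
  obtain ⟨u, hu⟩ : ∃ u, u = Matrix.toLin' U := ⟨_, rfl⟩
  obtain ⟨y, hy⟩ : ∃ y, y = Matrix.toLin' Y := ⟨_, rfl⟩
  have hup : u ^ p = 1 := by
    rw [hu, ← Matrix.toLin'_pow, hU, Matrix.toLin'_one]; rfl
  have hu1 : u ≠ 1 := by
    intro h
    apply hU1
    apply Matrix.toLin'.injective
    rw [← hu, h, Matrix.toLin'_one]; rfl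
  have hcl : u ∘ₗ y = y ∘ₗ u := by
    rw [hu, hy, ← Matrix.toLin'_mul, ← Matrix.toLin'_mul, hc]
  have hy3 : ∀ v, (y ^ 3) v = z • v := by
    intro v
    have : y ^ 3 = Matrix.toLin' (z • (1 : Matrix (Fin 3) (Fin 3) F)) := by
      rw [hy, ← Matrix.toLin'_pow, ← hY]
      congr 1
      rw [pow_succ, pow_two]
    rw [this, map_smul, Matrix.toLin'_one]
    rfl
  have hW : ∀ w ∈ fixSp u, y w ∈ fixSp u := fixSp_invariant u y hcl
  obtain ⟨b, hb⟩ : ∃ b, b = Module.finrank F (fixSp u) := ⟨_, rfl⟩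
  have hb0 : 0 < b := by
    have := finrank_inf_fixSp_pos u ⊤ (fun _ _ => Submodule.mem_top) p hup hp (by
      rw [finrank_top, Module.finrank_fin_fun]; norm_num)
    rwa [top_inf_eq, ← hb] at this
  have hb3 : b < 3 := by
    have := finrank_fixSp_lt u hu1
    rwa [Module.finrank_fin_fun, ← hb] at this
  have hf3 : (y.restrict hW) ^ 3 = z • (1 : Module.End F (fixSp u)) := by
    rw [Module.End.pow_restrict]
    apply LinearMap.ext
    intro w
    apply Subtype.ext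
    rw [LinearMap.coe_restrict_apply, hy3]
    rfl
  obtain ⟨δ, hδ⟩ : ∃ δ, δ = LinearMap.det (y.restrict hW) := ⟨_, rfl⟩
  have hδ3 : δ ^ 3 = z ^ b := by
    rw [hδ, ← map_pow, hf3, LinearMap.det_smul, map_one, mul_one, ← hb]
  have hoz : orderOf z = 3 := orderOf_eq_prime hz3 hz1
  have hzb : z ^ b ≠ 1 := by
    intro h
    have := orderOf_dvd_of_pow_eq_one h
    rw [hoz] at this
    omega
  have hδ9 : δ ^ 9 = 1 := by
    have : δ ^ 9 = (δ ^ 3) ^ 3 := by ring
    rw [this, hδ3, ← pow_mul, mul_comm, pow_mul, hz3, one_pow]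
  have hδ0 : δ ≠ 0 := by
    intro h
    rw [h] at hδ9
    simp at hδ9
  have ho9 : orderOf δ = 9 := by
    have hd : orderOf δ ∣ 3 ^ 2 := orderOf_dvd_of_pow_eq_one (by norm_num; exact hδ9)
    obtain ⟨k, hk, hk'⟩ := (Nat.dvd_prime_pow Nat.prime_three).mp hd
    have hnd : ¬ orderOf δ ∣ 3 := by
      intro h
      apply hzb
      rw [← hδ3]
      exact orderOf_dvd_iff_pow_eq_one.mp h
    interval_cases k
    · exfalso; apply hnd; rw [hk']; norm_num
    · exfalso; apply hnd; rw [hk']; norm_num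
    · rw [hk']; norm_num
  apply h9
  rw [← ho9]
  exact orderOf_dvd_of_pow_eq_one (FiniteField.pow_card_sub_one_eq_one δ hδ0)

/-- the exceptional case of the criterion for elements of order `r p` -/
theorem no_rp_exc (p : ℕ) [Fact p.Prime] [CharP F p] (hp3 : p ≠ 3)
    (h3 : 3 ∣ Fintype.card F - 1) (h9 : ¬ 9 ∣ Fintype.card F - 1)
    (x : Matrix.ProjectiveSpecialLinearGroup (Fin 3) F) : orderOf x ≠ 3 * p := by
  intro hx
  have hpp : p.Prime := Fact.out
  have hpq : p ∣ Fintype.card F := by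
    obtain ⟨f, -, hf⟩ := FiniteField.card F p
    rw [hf]
    exact dvd_pow_self p f.ne_zero
  have h3F : (3 : F) ≠ 0 := by
    intro h
    have h' : ((3 : ℕ) : F) = 0 := by exact_mod_cast h
    rw [CharP.cast_eq_zero_iff F p 3] at h'
    exact hp3 ((Nat.prime_dvd_prime_iff_eq hpp Nat.prime_three).mp h')
  obtain ⟨ω, hω0, hω⟩ := exists_orderOf_eq (F := F) 3 h3
  have hω3 : ω ^ 3 = 1 := by rw [← hω]; exact pow_orderOf_eq_one ω
  have hω1 : ω ≠ 1 := by
    intro h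
    rw [h, orderOf_one] at hω
    omega
  have hωs : 1 + ω + ω * ω = 0 := by
    have : (ω - 1) * (1 + ω + ω * ω) = 0 := by linear_combination hω3
    rcases mul_eq_zero.mp this with h | h
    · exact absurd (sub_eq_zero.mp h) hω1
    · exact h
  obtain ⟨x0, rfl⟩ := QuotientGroup.mk_surjective x
  obtain ⟨X, hX⟩ : ∃ X : Matrix (Fin 3) (Fin 3) F, X = (x0 : Matrix (Fin 3) (Fin 3) F) :=
    ⟨_, rfl⟩
  have hdX : X.det = 1 := by rw [hX]; exact x0.det_coe
  have hiff : ∀ j : ℕ, ((x0 : Matrix.ProjectiveSpecialLinearGroup (Fin 3) F)) ^ j = 1 ↔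
      ∃ z : F, z ^ 3 = 1 ∧ X ^ j = z • 1 := by
    intro j
    rw [hX]
    exact mk_pow_eq_one_iff x0 j
  obtain ⟨z, hz3, hz⟩ := (hiff (3 * p)).mp (by rw [← hx]; exact pow_orderOf_eq_one _)
  have hdet : (X ^ p).det = 1 := by rw [det_pow, hdX, one_pow]
  have hY : X ^ p * X ^ p * X ^ p = z • (1 : Matrix (Fin 3) (Fin 3) F) := by
    rw [← pow_add, ← pow_add, ← hz]
    congr 1
    ring
  have hns : ∀ c : F, X ^ p ≠ c • (1 : Matrix (Fin 3) (Fin 3) F) := by
    intro c hc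
    have hc3 : c ^ 3 = 1 := by
      have := hdet
      rw [hc, det_smul, det_one, mul_one, Fintype.card_fin] at this
      exact this
    have h1 := (hiff p).mpr ⟨c, hc3, hc⟩
    have h2 := orderOf_dvd_of_pow_eq_one h1
    rw [hx] at h2
    have := Nat.le_of_dvd hpp.pos h2
    have := hpp.pos
    nlinarith
  have hc : X ^ 9 * X ^ p = X ^ p * X ^ 9 := by
    rw [← pow_add, ← pow_add, add_comm]
  have hU : (X ^ 9) ^ p = 1 := by
    have : (X ^ 9) ^ p = (X ^ (3 * p)) ^ 3 := by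
      rw [← pow_mul, ← pow_mul]
      congr 1
      ring
    rw [this, hz, smul_pow, one_pow, hz3, one_smul]
  have hU1 : X ^ 9 ≠ 1 := by
    intro h
    have h1 := (hiff 9).mpr ⟨1, one_pow 3, by rw [h, one_smul]⟩
    have h2 := orderOf_dvd_of_pow_eq_one h1
    rw [hx] at h2
    have h4 : p ∣ 3 ^ 2 := Dvd.dvd.trans (Dvd.intro_left 3 rfl) (by norm_num; exact h2)
    exact hp3 ((Nat.prime_dvd_prime_iff_eq hpp Nat.prime_three).mp (hpp.dvd_of_dvd_pow h4))
  by_cases hz1 : z = 1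
  · rw [hz1, one_smul] at hY
    exact hU1 (eq_one_of_commute_cube_one p hpq h3F ω hωs (X ^ p) (X ^ 9) hdet hY hns hc hU)
  · exact false_of_commute_cube_ne_one p hpq h9 z hz1 hz3 (X ^ p) (X ^ 9) hY hc hU hU1

end Cfsg.Agent.Lib.Helper5.SpecSL
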