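import Mathlib
import Cfsg.Agent.Lib.Helper5.SpecSL.Arith
import Cfsg.Agent.Lib.Helper5.SpecSL.Singer
import Cfsg.Agent.Lib.Helper5.SpecSL.Block
import Cfsg.Agent.Lib.Helper5.SpecSL.Lift

set_option autoImplicit false

/-! Existence of elements of order `r * s` in `PSL_n(q)`. -/

namespace Cfsg.Agent.Lib.Helper5.SpecSL

open Matrix

variable {F : Type*} [Field F] [Fintype F]

/-- an element of `GL_n(q)` of order prime to `q - 1` has determinant `1` -/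
theorem exists_sl_of_gl {n : ℕ} (m : ℕ) (hm : Nat.Coprime m (Fintype.card F - 1))
    (C : GL (Fin n) F) (hC : orderOf C = m) :
    ∃ x : Matrix.SpecialLinearGroup (Fin n) F, orderOf x = m := by
  have hd0 : (C : Matrix (Fin n) (Fin n) F).det ≠ 0 := by
    have := (Matrix.isUnit_iff_isUnit_det _).mp C.isUnit
    exact this.ne_zero
  have h1 : (C : Matrix (Fin n) (Fin n) F).det ^ m = 1 := by
    rw [← Matrix.det_pow, ← Units.val_pow_eq_pow_val, ← hC, pow_orderOf_eq_one, Units.val_one,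
      Matrix.det_one]
  have h2 : (C : Matrix (Fin n) (Fin n) F).det ^ (Fintype.card F - 1) = 1 :=
    FiniteField.pow_card_sub_one_eq_one _ hd0
  have h3 := pow_gcd_eq_one.mpr ⟨h1, h2⟩
  rw [Nat.Coprime.gcd_eq_one hm, pow_one] at h3
  obtain ⟨x, hx⟩ : ∃ x : Matrix.SpecialLinearGroup (Fin n) F,
      Matrix.SpecialLinearGroup.toGL x = C := ⟨⟨C, h3⟩, Units.ext rfl⟩
  refine ⟨x, ?_⟩
  rw [← hC, ← hx]
  exact (orderOf_injective _ Matrix.SpecialLinearGroup.toGL_injective _).symm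

theorem coprime_mul_sub_one (q r s : ℕ) (hq : 1 ≤ q) (hr : r.Prime) (hs : s.Prime)
    (hk : 2 ≤ orderOf ((q : ℕ) : ZMod r)) (hl : 2 ≤ orderOf ((q : ℕ) : ZMod s)) :
    Nat.Coprime (r * s) (q - 1) :=
  Nat.Coprime.mul_left ((Nat.Prime.coprime_iff_not_dvd hr).2 (not_dvd_sub_one q r hq hk))
    ((Nat.Prime.coprime_iff_not_dvd hs).2 (not_dvd_sub_one q s hq hl))

/-- case `k + l ≤ n` -/
theorem exists_of_add_le (p : ℕ) [Fact p.Prime] [CharP F p] (n : ℕ) (r s : ℕ) (hr : r.Prime)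
    (hs : s.Prime) (hrs : r ≠ s) (hk : 2 ≤ orderOf ((Fintype.card F : ℕ) : ZMod r))
    (hl : 2 ≤ orderOf ((Fintype.card F : ℕ) : ZMod s))
    (hn : orderOf ((Fintype.card F : ℕ) : ZMod r) + orderOf ((Fintype.card F : ℕ) : ZMod s) ≤ n) :
    ∃ x : Matrix.ProjectiveSpecialLinearGroup (Fin n) F, orderOf x = r * s := by
  have hq : 1 ≤ Fintype.card F := Fintype.card_pos
  obtain ⟨k, hkk⟩ : ∃ k, k = orderOf ((Fintype.card F : ℕ) : ZMod r) := ⟨_, rfl⟩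
  obtain ⟨l, hll⟩ : ∃ l, l = orderOf ((Fintype.card F : ℕ) : ZMod s) := ⟨_, rfl⟩
  have hcop := coprime_mul_sub_one _ r s hq hr hs hk hl
  rw [← hkk] at hk hn
  rw [← hll] at hl hn
  have hk0 : NeZero k := ⟨by omega⟩
  have hl0 : NeZero l := ⟨by omega⟩
  obtain ⟨Ar, hAr⟩ := exists_gl_orderOf (F := F) p k r
    ((dvd_pow_sub_one_iff _ r k hq).2 (by rw [hkk]))
  obtain ⟨As, hAs⟩ := exists_gl_orderOf (F := F) p l s
    ((dvd_pow_sub_one_iff _ s l hq).2 (by rw [hll]))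
  obtain ⟨c, rfl⟩ : ∃ c, n = k + (l + c) := ⟨n - k - l, by omega⟩
  obtain ⟨B1, hB1⟩ := exists_block l c As (1 : GL (Fin c) F)
  rw [hAs, orderOf_one, Nat.lcm_one_right] at hB1
  obtain ⟨C, hC⟩ := exists_block k (l + c) Ar B1
  rw [hAr, hB1, Nat.Coprime.lcm_eq_mul ((Nat.coprime_primes hr hs).2 hrs)] at hC
  obtain ⟨x, hx⟩ := exists_sl_of_gl (r * s) hcop C hC
  exact exists_psl_of_sl (r * s) hcop x hx

/-- case `k ∣ l`, `l ≤ n` -/
theorem exists_of_dvd (p : ℕ) [Fact p.Prime] [CharP F p] (n : ℕ) (r s : ℕ) (hr : r.Prime)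
    (hs : s.Prime) (hrs : r ≠ s) (hk : 2 ≤ orderOf ((Fintype.card F : ℕ) : ZMod r))
    (hl : 2 ≤ orderOf ((Fintype.card F : ℕ) : ZMod s))
    (hd : orderOf ((Fintype.card F : ℕ) : ZMod r) ∣ orderOf ((Fintype.card F : ℕ) : ZMod s))
    (hn : orderOf ((Fintype.card F : ℕ) : ZMod s) ≤ n) :
    ∃ x : Matrix.ProjectiveSpecialLinearGroup (Fin n) F, orderOf x = r * s := by
  have hq : 1 ≤ Fintype.card F := Fintype.card_pos
  obtain ⟨l, hll⟩ : ∃ l, l = orderOf ((Fintype.card F : ℕ) : ZMod s) := ⟨_, rfl⟩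
  have hcop := coprime_mul_sub_one _ r s hq hr hs hk hl
  rw [← hll] at hl hn hd
  have hl0 : NeZero l := ⟨by omega⟩
  have h1 : r ∣ Fintype.card F ^ l - 1 := (dvd_pow_sub_one_iff _ r l hq).2 hd
  have h2 : s ∣ Fintype.card F ^ l - 1 := (dvd_pow_sub_one_iff _ s l hq).2 (by rw [hll])
  obtain ⟨A, hA⟩ := exists_gl_orderOf (F := F) p l (r * s)
    (Nat.Coprime.mul_dvd_of_dvd_of_dvd ((Nat.coprime_primes hr hs).2 hrs) h1 h2)
  obtain ⟨c, rfl⟩ : ∃ c, n = l + c := ⟨n - l, by omega⟩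
  obtain ⟨C, hC⟩ := exists_block l c A (1 : GL (Fin c) F)
  rw [hA, orderOf_one, Nat.lcm_one_right] at hC
  obtain ⟨x, hx⟩ := exists_sl_of_gl (r * s) hcop C hC
  exact exists_psl_of_sl (r * s) hcop x hx

end Cfsg.Agent.Lib.Helper5.SpecSL
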