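import Mathlib
import Cfsg.Agent.Lib.Helper5.SpecSL.Exist
import Cfsg.Agent.Lib.Helper5.SpecSL.NoRP2

set_option autoImplicit false

/-! Existence of elements of order `r * p` in `PSL_n(q)` when `k + 2 ≤ n`, `k ≥ 2`. -/

namespace Cfsg.Agent.Lib.Helper5.SpecSL

open Matrix

variable {F : Type*} [Field F]

theorem jordan_pow (j : ℕ) :
    (!![1, 1; 0, 1] : Matrix (Fin 2) (Fin 2) F) ^ j = !![1, (j : F); 0, 1] := by
  induction j with
  | zero =>
    ext a b
    fin_cases a <;> fin_cases b <;> simp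
  | succ j ih =>
    rw [pow_succ, ih]
    ext a b
    fin_cases a <;> fin_cases b <;> simp [Matrix.mul_apply, Fin.sum_univ_two]
    ring

/-- a unipotent element of order `p` of `GL_2` -/
theorem exists_jordan (p : ℕ) [Fact p.Prime] [CharP F p] : ∃ J : GL (Fin 2) F, orderOf J = p := by
  have hdet : (!![1, 1; 0, 1] : Matrix (Fin 2) (Fin 2) F).det ≠ 0 := by
    rw [Matrix.det_fin_two_of]; simp
  obtain ⟨J, hJ⟩ : ∃ J : GL (Fin 2) F, (J : Matrix (Fin 2) (Fin 2) F) = !![1, 1; 0, 1] :=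
    ⟨Matrix.GeneralLinearGroup.mkOfDetNeZero _ hdet, rfl⟩
  refine ⟨J, orderOf_eq_prime ?_ ?_⟩
  · apply Units.ext
    rw [Units.val_pow_eq_pow_val, hJ, jordan_pow, CharP.cast_eq_zero, Units.val_one]
    ext a b
    fin_cases a <;> fin_cases b <;> simp
  · intro h
    have h' := congrArg Units.val h
    rw [hJ, Units.val_one] at h'
    have := congrFun (congrFun h' 0) 1
    simp at this

variable [Fintype F]

theorem exists_rp_of_le (p : ℕ) [Fact p.Prime] [CharP F p] (n : ℕ) (r : ℕ) (hr : r.Prime)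
    (hrp : r ≠ p) (hk : 2 ≤ orderOf ((Fintype.card F : ℕ) : ZMod r))
    (hn : orderOf ((Fintype.card F : ℕ) : ZMod r) + 2 ≤ n) :
    ∃ x : Matrix.ProjectiveSpecialLinearGroup (Fin n) F, orderOf x = r * p := by
  have hpp : p.Prime := Fact.out
  have hq : 1 ≤ Fintype.card F := Fintype.card_pos
  have hpq : p ∣ Fintype.card F := by
    obtain ⟨f, -, hf⟩ := FiniteField.card F p
    rw [hf]
    exact dvd_pow_self p f.ne_zero
  have hcop : Nat.Coprime (r * p) (Fintype.card F - 1) :=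
    Nat.Coprime.mul_left ((Nat.Prime.coprime_iff_not_dvd hr).2 (not_dvd_sub_one _ r hq hk))
      ((Nat.Prime.coprime_iff_not_dvd hpp).2 (not_dvd_sub_one_of_dvd _ p hq hpp hpq))
  obtain ⟨k, hkk⟩ : ∃ k, k = orderOf ((Fintype.card F : ℕ) : ZMod r) := ⟨_, rfl⟩
  rw [← hkk] at hk hn
  have hk0 : NeZero k := ⟨by omega⟩
  obtain ⟨Ar, hAr⟩ := exists_gl_orderOf (F := F) p k r
    ((dvd_pow_sub_one_iff _ r k hq).2 (by rw [hkk]))
  obtain ⟨J, hJ⟩ := exists_jordan (F := F) p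
  obtain ⟨c, rfl⟩ : ∃ c, n = k + (2 + c) := ⟨n - k - 2, by omega⟩
  obtain ⟨B1, hB1⟩ := exists_block 2 c J (1 : GL (Fin c) F)
  rw [hJ, orderOf_one, Nat.lcm_one_right] at hB1
  obtain ⟨C, hC⟩ := exists_block k (2 + c) Ar B1
  rw [hAr, hB1, Nat.Coprime.lcm_eq_mul ((Nat.coprime_primes hr hpp).2 hrp)] at hC
  obtain ⟨x, hx⟩ := exists_sl_of_gl (r * p) hcop C hC
  exact exists_psl_of_sl (r * p) hcop x hx

end Cfsg.Agent.Lib.Helper5.SpecSL
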