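import Mathlib
import Cfsg.Agent.Lib.Helper5.Q8Norm.Quat

set_option autoImplicit false

/-! In `SL_2` over a field of characteristic `p`, an element of odd prime order `r ≠ p` does not
commute with a non-trivial element of order `p`. -/

namespace Cfsg.Agent.Lib.Helper5.SpecSL

open Matrix

variable {F : Type*} [Field F]

/-- a square-zero `2 × 2` matrix has trace and determinant zero -/
theorem sqzero_trace_det (N : Matrix (Fin 2) (Fin 2) F) (hN : N ≠ 0) (hN2 : N * N = 0) :
    N.trace = 0 ∧ N.det = 0 := by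
  have hC := Cfsg.Agent.Lib.Helper5.Q8Norm.cayley N
  rw [hN2] at hC
  have ht : N.trace = 0 := by
    by_contra ht
    have h1 : N.trace • N = N.det • (1 : Matrix (Fin 2) (Fin 2) F) := by
      rw [← sub_eq_zero]; exact hC.symm
    have h2 : N = (N.trace⁻¹ * N.det) • (1 : Matrix (Fin 2) (Fin 2) F) := by
      rw [mul_smul, ← h1, smul_smul, inv_mul_cancel₀ ht, one_smul]
    have h3 : N * N = ((N.trace⁻¹ * N.det) * (N.trace⁻¹ * N.det)) • 1 := by
      conv_lhs => rw [h2]
      rw [smul_mul_smul_comm, mul_one]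
    rw [hN2] at h3
    have h4 := congrFun (congrFun h3 0) 0
    simp at h4
    apply hN
    rw [h2]
    rcases h4 with h | h
    · exact absurd h ht
    · rw [h, mul_zero, zero_smul]
  refine ⟨ht, ?_⟩
  rw [ht, zero_smul, zero_sub] at hC
  have h4 := congrFun (congrFun hC 0) 0
  simpa using h4

/-- the centralizer of a non-zero square-zero `2 × 2` matrix -/
theorem centralizer_sqzero (N Y : Matrix (Fin 2) (Fin 2) F) (hN : N ≠ 0) (hN2 : N * N = 0)
    (hc : Y * N = N * Y) : ∃ a b : F, Y = a • 1 + b • N := by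
  obtain ⟨ht, -⟩ := sqzero_trace_det N hN hN2
  rw [Matrix.trace_fin_two] at ht
  have c00 := congrFun (congrFun hc 0) 0
  have c01 := congrFun (congrFun hc 0) 1
  have c10 := congrFun (congrFun hc 1) 0
  have n00 := congrFun (congrFun hN2 0) 0
  simp only [Matrix.mul_apply, Fin.sum_univ_two, Matrix.zero_apply] at c00 c01 c10 n00
  have h11 : N 1 1 = - N 0 0 := by linear_combination ht
  by_cases h01 : N 0 1 = 0
  · -- then `N 0 0 = 0`
    have h00 : N 0 0 = 0 := by
      rw [h01, zero_mul, add_zero] at n00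
      exact mul_self_eq_zero.mp n00
    have h10 : N 1 0 ≠ 0 := by
      intro h10
      apply hN
      ext i j
      fin_cases i <;> fin_cases j <;> simp [h00, h01, h10, h11]
    refine ⟨Y 0 0, Y 1 0 / N 1 0, ?_⟩
    rw [h00, h01] at c00
    rw [h00, h11, h00] at c10
    have e1 : Y 0 1 = 0 := by
      have : Y 0 1 * N 1 0 = 0 := by linear_combination c00
      rcases mul_eq_zero.mp this with h | h
      · exact h
      · exact absurd h h10
    have e2 : Y 1 1 = Y 0 0 := by
      have : (Y 1 1 - Y 0 0) * N 1 0 = 0 := by linear_combination c10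
      rcases mul_eq_zero.mp this with h | h
      · linear_combination h
      · exact absurd h h10
    ext i j
    fin_cases i <;> fin_cases j <;> simp [h00, h01, h11, e1, e2]
    field_simp
  · refine ⟨Y 0 0 - Y 0 1 / N 0 1 * N 0 0, Y 0 1 / N 0 1, ?_⟩
    rw [h11] at c01
    ext i j
    fin_cases i <;> fin_cases j <;> simp [h11]
    · field_simp
    · field_simp
      linear_combination (-1 : F) * c00
    · field_simp
      linear_combination (-1 : F) * c01

theorem smul_add_smul_pow (N : Matrix (Fin 2) (Fin 2) F) (hN2 : N * N = 0) (a b : F) (j : ℕ) :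
    (a • (1 : Matrix (Fin 2) (Fin 2) F) + b • N) ^ (j + 1) =
      (a ^ (j + 1)) • (1 : Matrix (Fin 2) (Fin 2) F) + (((j + 1 : ℕ) : F) * a ^ j * b) • N := by
  induction j with
  | zero => simp
  | succ j ih =>
    rw [pow_succ, ih]
    simp only [add_mul, mul_add, smul_mul_smul_comm, mul_one, one_mul, hN2, smul_zero, add_zero]
    rw [add_assoc, ← add_smul]
    congr 1
    · congr 1
      ring
    · congr 1
      push_cast
      ring

/-- the main lemma in dimension `2` -/
theorem eq_one_of_commute_unipotent (p : ℕ) [Fact p.Prime] [CharP F p] (r : ℕ) (hr : r.Prime)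
    (hr2 : r ≠ 2) (hrp : r ≠ p) (Y U : Matrix (Fin 2) (Fin 2) F) (hdet : Y.det = 1)
    (hY : Y ^ r = 1) (hU : U ^ p = 1) (hU1 : U ≠ 1) (hc : Y * U = U * Y) : Y = 1 := by
  obtain ⟨N, hN⟩ : ∃ N, N = U - 1 := ⟨_, rfl⟩
  have hN0 : N ≠ 0 := by
    rw [hN]; intro h; exact hU1 (sub_eq_zero.mp h)
  have hNp : N ^ p = 0 := by
    rw [hN, sub_pow_char_of_commute _ (Commute.one_right U), hU, one_pow, sub_self]
  have hcN : Y * N = N * Y := by
    rw [hN, mul_sub, sub_mul, hc, mul_one, one_mul]
  -- `N * N = 0`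
  have hN2 : N * N = 0 := by
    have hC := Cfsg.Agent.Lib.Helper5.Q8Norm.cayley N
    have hd : N.det = 0 := by
      have : N.det ^ p = 0 := by rw [← Matrix.det_pow, hNp, Matrix.det_zero]
      exact pow_eq_zero_iff (Fact.out : p.Prime).ne_zero |>.mp this
    rw [hd, zero_smul, sub_zero] at hC
    have hpow : ∀ j : ℕ, N ^ (j + 1) = (N.trace ^ j) • N := by
      intro j
      induction j with
      | zero => simp
      | succ j ih => rw [pow_succ, ih, smul_mul_assoc, hC, smul_smul, pow_succ]
    have hp1 : p = (p - 1) + 1 := by have := (Fact.out : p.Prime).one_lt; omega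
    rw [hp1, hpow] at hNp
    rcases smul_eq_zero.mp hNp with h | h
    · have hp2 : p - 1 ≠ 0 := by have := (Fact.out : p.Prime).two_le; omega
      have := (pow_eq_zero_iff hp2).mp h
      rw [hC, this, zero_smul]
    · exact absurd h hN0
  obtain ⟨htr, hdN⟩ := sqzero_trace_det N hN0 hN2
  obtain ⟨a, b, hab⟩ := centralizer_sqzero N Y hN0 hN2 hcN
  -- determinant
  have ha2 : a * a = 1 := by
    have : Y.det = a * a := by
      rw [hab, Matrix.det_fin_two]
      rw [Matrix.trace_fin_two] at htr
      rw [Matrix.det_fin_two] at hdN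
      simp
      linear_combination (a * b) * htr + (b * b) * hdN
    rw [← this, hdet]
  have ha0 : a ≠ 0 := by
    rintro rfl
    rw [mul_zero] at ha2
    exact zero_ne_one ha2
  have hr1 : r = (r - 1) + 1 := by have := hr.two_le; omega
  have hYr := hY
  rw [hab, hr1, smul_add_smul_pow N hN2] at hYr
  -- independence of `1` and `N`
  have hind : ∀ x y : F, x • (1 : Matrix (Fin 2) (Fin 2) F) + y • N = 0 → x = 0 ∧ y = 0 := by
    intro x y h
    have hy : y = 0 := by
      by_contra hy
      have h1 : N = (-(y⁻¹ * x)) • (1 : Matrix (Fin 2) (Fin 2) F) := by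
        have h' : y • N = -(x • (1 : Matrix (Fin 2) (Fin 2) F)) :=
          eq_neg_of_add_eq_zero_right h
        calc N = y⁻¹ • (y • N) := by rw [smul_smul, inv_mul_cancel₀ hy, one_smul]
          _ = y⁻¹ • (-(x • (1 : Matrix (Fin 2) (Fin 2) F))) := by rw [h']
          _ = (-(y⁻¹ * x)) • (1 : Matrix (Fin 2) (Fin 2) F) := by
            rw [smul_neg, smul_smul, neg_smul]
      have h2 : N * N = ((-(y⁻¹ * x)) * (-(y⁻¹ * x))) • 1 := by
        conv_lhs => rw [h1]
        rw [smul_mul_smul_comm, mul_one]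
      rw [hN2] at h2
      have h4 := congrFun (congrFun h2 0) 0
      simp at h4
      apply hN0
      rw [h1]
      rcases h4 with h | h
      · exact absurd h hy
      · rw [h, mul_zero, neg_zero, zero_smul]
    rw [hy, zero_smul, add_zero] at h
    have h4 := congrFun (congrFun h 0) 0
    simp at h4
    exact ⟨h4, hy⟩
  have h5 : (a ^ (r - 1 + 1) - 1) • (1 : Matrix (Fin 2) (Fin 2) F) +
      (((r - 1 + 1 : ℕ) : F) * a ^ (r - 1) * b) • N = 0 := by
    rw [sub_smul, one_smul]
    rw [sub_add_eq_add_sub, hYr, sub_self]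
  obtain ⟨h6, h7⟩ := hind _ _ h5
  rw [← hr1] at h6 h7
  have har : a ^ r = 1 := by linear_combination h6
  have hrF : (r : F) ≠ 0 := by
    intro h
    rw [CharP.cast_eq_zero_iff F p r] at h
    exact hrp ((Nat.prime_dvd_prime_iff_eq Fact.out hr).mp h).symm
  have hb0 : b = 0 := by
    rcases mul_eq_zero.mp h7 with h | h
    · rcases mul_eq_zero.mp h with h | h
      · exact absurd h hrF
      · exact absurd (pow_eq_zero_iff (by have := hr.two_le; omega) |>.mp h) ha0
    · exact h
  have ha1 : a = 1 := by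
    have h8 : a ^ 2 = 1 := by rw [pow_two]; exact ha2
    have h9 := pow_gcd_eq_one.mpr ⟨har, h8⟩
    have hg : Nat.gcd r 2 = 1 := by
      rw [Nat.Coprime.gcd_eq_one]
      exact (Nat.coprime_primes hr Nat.prime_two).2 hr2
    rwa [hg, pow_one] at h9
  rw [hab, ha1, hb0, one_smul, zero_smul, add_zero]

end Cfsg.Agent.Lib.Helper5.SpecSL
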