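import Mathlib
import Cfsg.Agent.Lib.Helper5.SpecSL.N2
import Cfsg.Agent.Lib.Helper5.SpecSL.NoRP2

set_option autoImplicit false

/-! Lifting element orders prime to `gcd(n, q - 1)` from `PSL_n(q)` to `SL_n(q)`; no element of
order `r * p` in `PSL_2(q)`. -/

namespace Cfsg.Agent.Lib.Helper5.SpecSL

open Matrix

variable {F : Type*} [Field F] [Fintype F] {n : ℕ}

theorem center_pow_gcd (c : Matrix.SpecialLinearGroup (Fin n) F)
    (hc : c ∈ Subgroup.center (Matrix.SpecialLinearGroup (Fin n) F)) :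
    c ^ Nat.gcd n (Fintype.card F - 1) = 1 := by
  by_cases hn : n = 0
  · subst hn
    exact Subsingleton.elim _ _
  obtain ⟨a, ha, hca⟩ := Matrix.SpecialLinearGroup.mem_center_iff.mp hc
  have ha0 : a ≠ 0 := by
    rintro rfl
    rw [Fintype.card_fin, zero_pow hn] at ha
    exact zero_ne_one ha
  rw [Fintype.card_fin] at ha
  have h2 : a ^ (Fintype.card F - 1) = 1 := FiniteField.pow_card_sub_one_eq_one a ha0
  have h3 := pow_gcd_eq_one.mpr ⟨ha, h2⟩
  apply Subtype.ext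
  rw [Matrix.SpecialLinearGroup.coe_pow, ← hca, Matrix.SpecialLinearGroup.coe_one]
  rw [← map_pow, h3, map_one]

theorem exists_sl_of_psl' (m : ℕ) (hm : Nat.Coprime m (Nat.gcd n (Fintype.card F - 1)))
    (x : Matrix.ProjectiveSpecialLinearGroup (Fin n) F) (hx : orderOf x = m) :
    ∃ y : Matrix.SpecialLinearGroup (Fin n) F, orderOf y = m := by
  obtain ⟨x0, rfl⟩ := QuotientGroup.mk_surjective x
  have h1 : x0 ^ m ∈ Subgroup.center (Matrix.SpecialLinearGroup (Fin n) F) := by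
    rw [← QuotientGroup.eq_one_iff, QuotientGroup.mk_pow, ← hx, pow_orderOf_eq_one]
  obtain ⟨d, hd⟩ : ∃ d, d = Nat.gcd n (Fintype.card F - 1) := ⟨_, rfl⟩
  rw [← hd] at hm
  refine ⟨x0 ^ d, ?_⟩
  have h2 : (x0 ^ d) ^ m = 1 := by
    rw [← pow_mul, mul_comm, pow_mul, hd]
    exact center_pow_gcd _ h1
  have h3 : orderOf (x0 ^ d) ∣ m := orderOf_dvd_of_pow_eq_one h2
  have h4 : orderOf ((x0 : Matrix.ProjectiveSpecialLinearGroup (Fin n) F) ^ d) = m := by
    rw [← hx]
    apply Nat.Coprime.orderOf_pow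
    rw [hx]; exact hm
  have h5 : m ∣ orderOf (x0 ^ d) := by
    rw [← h4, ← QuotientGroup.mk_pow]
    exact orderOf_map_dvd (QuotientGroup.mk' _) _
  exact Nat.dvd_antisymm h3 h5

/-- `PSL_2(q)` has no element of order `r * p` for an odd prime `r ≠ p` -/
theorem no_rp_two (p : ℕ) [Fact p.Prime] [CharP F p] (r : ℕ) (hr : r.Prime) (hr2 : r ≠ 2)
    (hrp : r ≠ p) (x : Matrix.ProjectiveSpecialLinearGroup (Fin 2) F) : orderOf x ≠ r * p := by
  intro hx
  have hpp : p.Prime := Fact.out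
  have hq : 1 ≤ Fintype.card F := Fintype.card_pos
  have hpq : p ∣ Fintype.card F := by
    obtain ⟨f, -, hf⟩ := FiniteField.card F p
    rw [hf]
    exact dvd_pow_self p f.ne_zero
  have hcop : Nat.Coprime (r * p) (Nat.gcd 2 (Fintype.card F - 1)) := by
    by_cases hp2 : p = 2
    · have hodd : ¬ 2 ∣ Fintype.card F - 1 := by
        rw [← hp2]
        exact not_dvd_sub_one_of_dvd _ p hq hpp hpq
      have : Nat.gcd 2 (Fintype.card F - 1) = 1 :=
        (Nat.Prime.coprime_iff_not_dvd Nat.prime_two).2 hodd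
      rw [this]
      exact Nat.coprime_one_right _
    · have h2 : Nat.Coprime (r * p) 2 :=
        Nat.Coprime.mul_left ((Nat.coprime_primes hr Nat.prime_two).2 hr2)
          ((Nat.coprime_primes hpp Nat.prime_two).2 hp2)
      exact Nat.Coprime.coprime_dvd_right (Nat.gcd_dvd_left _ _) h2
  obtain ⟨y, hy⟩ := exists_sl_of_psl' (r * p) hcop x hx
  have h1 : ((y : Matrix (Fin 2) (Fin 2) F) ^ p) ^ r = 1 := by
    rw [← pow_mul, mul_comm, ← Matrix.SpecialLinearGroup.coe_pow, ← hy, pow_orderOf_eq_one,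
      Matrix.SpecialLinearGroup.coe_one]
  have h2 : ((y : Matrix (Fin 2) (Fin 2) F) ^ r) ^ p = 1 := by
    rw [← pow_mul, ← Matrix.SpecialLinearGroup.coe_pow, ← hy, pow_orderOf_eq_one,
      Matrix.SpecialLinearGroup.coe_one]
  have hne : ∀ j : ℕ, (y : Matrix (Fin 2) (Fin 2) F) ^ j = 1 → r * p ∣ j := by
    intro j hj
    rw [← hy]
    apply orderOf_dvd_of_pow_eq_one
    apply Subtype.ext
    rw [Matrix.SpecialLinearGroup.coe_pow, hj, Matrix.SpecialLinearGroup.coe_one]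
  have h3 : (y : Matrix (Fin 2) (Fin 2) F) ^ r ≠ 1 := by
    intro h
    have := Nat.le_of_dvd hr.pos (hne r h)
    have := hpp.two_le
    nlinarith [hr.pos]
  have h4 : (y : Matrix (Fin 2) (Fin 2) F) ^ p ≠ 1 := by
    intro h
    have := Nat.le_of_dvd hpp.pos (hne p h)
    have := hr.two_le
    nlinarith [hpp.pos]
  have hdet : ((y : Matrix (Fin 2) (Fin 2) F) ^ p).det = 1 := by
    rw [Matrix.det_pow, y.2, one_pow]
  have hc : (y : Matrix (Fin 2) (Fin 2) F) ^ p * (y : Matrix (Fin 2) (Fin 2) F) ^ r =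
      (y : Matrix (Fin 2) (Fin 2) F) ^ r * (y : Matrix (Fin 2) (Fin 2) F) ^ p := by
    rw [← pow_add, ← pow_add, add_comm]
  exact h4 (eq_one_of_commute_unipotent p r hr hr2 hrp _ _ hdet h1 h2 h3 hc)

end Cfsg.Agent.Lib.Helper5.SpecSL
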