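import Mathlib
import Cfsg.Agent.Lib.Helper5.SpecSL.Arith
import Cfsg.Agent.Lib.Helper5.SpecSL.Count
import Cfsg.Agent.Lib.Helper5.SpecSL.Lift

set_option autoImplicit false

/-! Non-existence of elements of order `r * s` in `PSL_n(q)`, and the bound `l ≤ n` for primes
dividing the group order. -/

namespace Cfsg.Agent.Lib.Helper5.SpecSL

open Matrix

variable {F : Type*} [Field F] [Fintype F]

/-- a prime `s ∤ q` dividing `|PSL_n(q)|` has order at most `n` modulo... -/
theorem orderOf_le_of_dvd_card (n : ℕ) (s : ℕ) (hs : s.Prime) (hsq : ¬ s ∣ Fintype.card F)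
    (hsG : s ∣ Nat.card (Matrix.ProjectiveSpecialLinearGroup (Fin n) F)) :
    orderOf ((Fintype.card F : ℕ) : ZMod s) ≤ n := by
  have hq : 1 ≤ Fintype.card F := Fintype.card_pos
  have h1 : Nat.card (Matrix.ProjectiveSpecialLinearGroup (Fin n) F) ∣
      Nat.card (Matrix.SpecialLinearGroup (Fin n) F) :=
    Subgroup.card_quotient_dvd_card _
  have h2 : Nat.card (Matrix.SpecialLinearGroup (Fin n) F) ∣ Nat.card (GL (Fin n) F) :=
    Subgroup.card_dvd_of_injective _ Matrix.SpecialLinearGroup.toGL_injective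
  have h3 := hsG.trans (h1.trans h2)
  rw [Matrix.card_GL_field] at h3
  obtain ⟨i, -, hi⟩ := (Prime.dvd_finsetProd_iff (Nat.prime_iff.mp hs) _).mp h3
  have hin : (i : ℕ) < n := i.2
  have h4 : Fintype.card F ^ n - Fintype.card F ^ (i : ℕ) =
      Fintype.card F ^ (i : ℕ) * (Fintype.card F ^ (n - i) - 1) := by
    rw [Nat.mul_sub, mul_one, ← pow_add, Nat.add_sub_cancel' hin.le]
  rw [h4] at hi
  have h5 : s ∣ Fintype.card F ^ (n - (i : ℕ)) - 1 := by
    rcases (Nat.Prime.dvd_mul hs).mp hi with h | h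
    · exact absurd (hs.dvd_of_dvd_pow h) hsq
    · exact h
  rw [dvd_pow_sub_one_iff _ s _ hq] at h5
  have := Nat.le_of_dvd (by omega) h5
  omega

/-- no element of order `r * s` when `n < k + l` and `k ∤ l` -/
theorem no_element (n : ℕ) (r s : ℕ) (hr : r.Prime) (hs : s.Prime)
    (hrq : ¬ r ∣ Fintype.card F) (hsq : ¬ s ∣ Fintype.card F)
    (hk : 2 ≤ orderOf ((Fintype.card F : ℕ) : ZMod r))
    (hkl : orderOf ((Fintype.card F : ℕ) : ZMod r) ≤ orderOf ((Fintype.card F : ℕ) : ZMod s))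
    (hn : n < orderOf ((Fintype.card F : ℕ) : ZMod r) + orderOf ((Fintype.card F : ℕ) : ZMod s))
    (hnd : ¬ orderOf ((Fintype.card F : ℕ) : ZMod r) ∣ orderOf ((Fintype.card F : ℕ) : ZMod s))
    (x : Matrix.ProjectiveSpecialLinearGroup (Fin n) F) : orderOf x ≠ r * s := by
  intro hx
  have hq : 1 ≤ Fintype.card F := Fintype.card_pos
  have hcop : Nat.Coprime (r * s) (Fintype.card F - 1) :=
    Nat.Coprime.mul_left ((Nat.Prime.coprime_iff_not_dvd hr).2 (not_dvd_sub_one _ r hq hk))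
      ((Nat.Prime.coprime_iff_not_dvd hs).2 (not_dvd_sub_one _ s hq (le_trans hk hkl)))
  obtain ⟨y, hy⟩ := exists_sl_of_psl (r * s) hcop x hx
  have hrF : Fact r.Prime := ⟨hr⟩
  have hsF : Fact s.Prime := ⟨hs⟩
  obtain ⟨Y, hY⟩ : ∃ Y : Module.End F (Fin n → F),
      Y = Matrix.toLinAlgEquiv' (y : Matrix (Fin n) (Fin n) F) := ⟨_, rfl⟩
  have hpow : ∀ j : ℕ, Y ^ j = 1 ↔ y ^ j = 1 := by
    intro j
    rw [hY, ← map_pow, ← Matrix.SpecialLinearGroup.coe_pow]
    constructor
    · intro h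
      apply Subtype.ext
      rw [Matrix.SpecialLinearGroup.coe_one]
      apply Matrix.toLinAlgEquiv'.injective
      rw [h, map_one]
    · intro h
      rw [h, Matrix.SpecialLinearGroup.coe_one, map_one]
  have hYrs : Y ^ (r * s) = 1 := (hpow _).2 (by rw [← hy]; exact pow_orderOf_eq_one y)
  have h1 : (Y ^ s) ^ r = 1 := by rw [← pow_mul, mul_comm]; exact hYrs
  have h2 : (Y ^ r) ^ s = 1 := by rw [← pow_mul]; exact hYrs
  have h3 : Y ^ s ≠ 1 := by
    intro h
    have := orderOf_dvd_of_pow_eq_one ((hpow s).1 h)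
    rw [hy] at this
    have h' := Nat.le_of_dvd hs.pos this
    have := hr.two_le
    nlinarith [hs.pos]
  have h4 : Y ^ r ≠ 1 := by
    intro h
    have := orderOf_dvd_of_pow_eq_one ((hpow r).1 h)
    rw [hy] at this
    have h' := Nat.le_of_dvd hr.pos this
    have := hs.two_le
    nlinarith [hr.pos]
  have hc : (Y ^ s) ∘ₗ (Y ^ r) = (Y ^ r) ∘ₗ (Y ^ s) := by
    rw [← Module.End.mul_eq_comp, ← Module.End.mul_eq_comp, ← pow_add, ← pow_add, add_comm]
  have key := lcm_or_add_le (Y ^ s) (Y ^ r) hc r s h1 h2 h3 h4 hrq hsq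
  rw [Module.finrank_fin_fun] at key
  rcases key with h | h
  · have := add_le_lcm _ _ (by omega) hkl hnd
    omega
  · omega

end Cfsg.Agent.Lib.Helper5.SpecSL
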