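import Mathlib
import Cfsg.Agent.Lib.Helper5.SpecSL.Exist
import Cfsg.Agent.Lib.Helper5.SpecSL.NoElt

set_option autoImplicit false

/-! Adjacency of two odd primes different from the characteristic in the prime graph of
`PSL_n(q)`. -/

namespace Cfsg.Agent.Lib.Helper5.SpecSL

theorem main2468 {F : Type*} [Field F] [Fintype F] (p : ℕ) [Fact p.Prime] [CharP F p] (n : ℕ)
    (r s : ℕ) (hr : r.Prime) (hs : s.Prime) (hrp : r ≠ p) (hsp : s ≠ p) (hrs : r ≠ s)
    (hsG : s ∣ Nat.card (Matrix.ProjectiveSpecialLinearGroup (Fin n) F))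
    (k l : ℕ) (hk : k = orderOf ((Fintype.card F : ℕ) : ZMod r))
    (hl : l = orderOf ((Fintype.card F : ℕ) : ZMod s))
    (h2k : 2 ≤ k) (hkl : k ≤ l) :
    (r * s ∉ Set.range (orderOf : Matrix.ProjectiveSpecialLinearGroup (Fin n) F → ℕ)) ↔
      (n < k + l ∧ ¬ k ∣ l) := by
  have hrq := not_dvd_card_of_ne (F := F) p r hr hrp
  have hsq := not_dvd_card_of_ne (F := F) p s hs hsp
  constructor
  · intro h
    by_contra hcon
    apply h
    rw [Set.mem_range]
    by_cases h1 : k + l ≤ n
    · subst hk hl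
      exact exists_of_add_le p n r s hr hs hrs h2k (le_trans h2k hkl) h1
    · have h2 : k ∣ l := by
        by_contra h2
        exact hcon ⟨by omega, h2⟩
      have h3 := orderOf_le_of_dvd_card n s hs hsq hsG
      subst hk hl
      exact exists_of_dvd p n r s hr hs hrs h2k (le_trans h2k hkl) h2 h3
  · rintro ⟨h1, h2⟩ hmem
    rw [Set.mem_range] at hmem
    obtain ⟨x, hx⟩ := hmem
    subst hk hl
    exact no_element n r s hr hs hrq hsq h2k hkl h1 h2 x hx

end Cfsg.Agent.Lib.Helper5.SpecSL
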