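import Mathlib
import Cfsg.Agent.Lib.Helper5.SpecSL.Exc3C
import Cfsg.Agent.Lib.Helper5.SpecSL.NoRP2
import Cfsg.Agent.Lib.Helper5.SpecSL.ExistRP
import Cfsg.Agent.Lib.Helper5.SpecSL.Lift2

set_option autoImplicit false

/-! Adjacency of an odd prime `r` and the characteristic in the prime graph of `PSL_n(q)`. -/

namespace Cfsg.Agent.Lib.Helper5.SpecSL

variable {F : Type*} [Field F] [Fintype F]

theorem psl_rp_iff (p : ℕ) [Fact p.Prime] [CharP F p] (n : ℕ) (hn : 2 ≤ n)
    (r : ℕ) (hr : r.Prime) (hr2 : r ≠ 2) (hrp : r ≠ p)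
    (k : ℕ) (hk : k = orderOf ((Fintype.card F : ℕ) : ZMod r)) :
    (r * p ∉ Set.range (orderOf : Matrix.ProjectiveSpecialLinearGroup (Fin n) F → ℕ)) ↔
      (n - 2 < k ∨ (n = 3 ∧ r = 3 ∧ 3 ∣ Fintype.card F - 1 ∧ ¬ 9 ∣ Fintype.card F - 1)) := by
  have hpp : p.Prime := Fact.out
  have hrF : Fact r.Prime := ⟨hr⟩
  have hq : 1 ≤ Fintype.card F := Fintype.card_pos
  have hrq := not_dvd_card_of_ne (F := F) p r hr hrp
  have hk0 : 0 < k := by
    have hne : ((Fintype.card F : ℕ) : ZMod r) ≠ 0 := by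
      rw [Ne, ZMod.natCast_eq_zero_iff]
      exact hrq
    have h1 := ZMod.pow_card_sub_one_eq_one hne
    have h2 := orderOf_dvd_of_pow_eq_one h1
    rw [← hk] at h2
    exact Nat.pos_of_dvd_of_pos h2 (by have := hr.two_le; omega)
  have hk1 : k = 1 ↔ r ∣ Fintype.card F - 1 := by
    have := dvd_pow_sub_one_iff (Fintype.card F) r 1 hq
    rw [pow_one, ← hk, Nat.dvd_one] at this
    exact this.symm
  rw [Set.mem_range]
  constructor
  · intro hno
    by_contra hcon
    rw [not_or] at hcon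
    obtain ⟨hc1, hc2⟩ := hcon
    apply hno
    by_cases hk2 : 2 ≤ k
    · exact exists_rp_of_le p n r hr hrp (by rw [← hk]; exact hk2) (by rw [← hk]; omega)
    · have hk1' : k = 1 := by omega
      have hrd := hk1.mp hk1'
      obtain ⟨b, hb0, hbr⟩ := exists_orderOf_eq (F := F) r hrd
      by_cases hn3 : n = 3
      · subst hn3
        by_cases hr3 : r = 3
        · subst hr3
          have h9 : 9 ∣ Fintype.card F - 1 := by
            by_contra h9
            exact hc2 ⟨rfl, rfl, hrd, h9⟩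
          obtain ⟨c, hc0, hc9⟩ := exists_orderOf_eq (F := F) 9 h9
          apply exists_rp_three p 3 hr hrp c hc0
          rw [orderOf_pow_of_dvd (by norm_num) (by rw [hc9]; norm_num), hc9]
        · apply exists_rp_three p r hr hrp b hb0
          rw [Nat.Coprime.orderOf_pow, hbr]
          rw [hbr]
          exact (Nat.coprime_primes hr Nat.prime_three).mpr hr3
      · obtain ⟨m, rfl⟩ : ∃ m, n = 3 + (m + 1) := ⟨n - 4, by omega⟩
        exact exists_rp_four p r hr hrp b hb0 hbr m
  · rintro (h | ⟨rfl, rfl, h3, h9⟩)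
    · rintro ⟨x, hx⟩
      by_cases hk2 : 2 ≤ k
      · exact no_element_rp p n r hr hrp (by rw [← hk]; exact hk2) (by rw [← hk]; omega) x hx
      · have hn2 : n = 2 := by omega
        subst hn2
        exact no_rp_two p r hr hr2 hrp x hx
    · rintro ⟨x, hx⟩
      exact no_rp_exc p (fun h => hrp h.symm) h3 h9 x hx

end Cfsg.Agent.Lib.Helper5.SpecSL
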